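import Mathlib
import Cfsg.Agent.H94.J4.Model
import Cfsg.Agent.H94.J4.Data.Twist

/-!
Interface: a copy of the model in a group together with an element with the primary pairs of the
conjugation by t; the two relators follow from it.
-/

set_option autoImplicit false
set_option maxRecDepth 100000

namespace H92.J4Rel

open H94.J4 (NN gen14 vec)
open H77.HN (evw)

/-- the element of the model with the given mask -/
noncomputable def vN (m : ℕ) : NN := SemidirectProduct.inl (vec m)

/-- the mask of a pair of points -/
def duadMask : ℕ := 14

/-- two masks of a line inside the seven fixed masks of t -/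
def lineA : ℕ := 629
/-- the second mask of the line -/
def lineB : ℕ := 1731
/-- a fixed mask of t outside the line -/
def lineC : ℕ := 1320

/-- the seven fixed masks of t, with zero -/
def fixMasks : List ℕ := [0, 414, 629, 1003, 1206, 1320, 1731, 1885]

/-- a copy of the model with an element t -/
structure Tw (G : Type*) [Group G] where
  j : NN →* G
  inj : Function.Injective j
  t : G
  sq : t * t = 1
  /-- t does not lie in the copy -/
  notN : t ∉ j.range
  /-- the primary pairs: x, the second commuting generator, three fixed and six moved vectors -/
  prim : ∀ p ∈ H94.J4.Data.prim, t * j (evw gen14 p.1) = j (evw gen14 p.2) * t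
  /-- a pair vector is only fused to the vectors by elements of the copy -/
  fus : ∀ g : G, (∃ m : ℕ, g * j (vN duadMask) * g⁻¹ = j (vN m)) → g ∈ j.range
  /-- the centraliser of a line of fixed masks permutes the fixed masks -/
  line : ∀ g : G, Commute g (j (vN lineA)) → Commute g (j (vN lineB)) →
    ∃ m ∈ fixMasks, g * j (vN lineC) * g⁻¹ = j (vN m)

end H92.J4Rel
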