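import Mathlib

/-! Generated data for the relation of two conjugates of t with disjoint octads. -/

set_option autoImplicit false
set_option linter.all false

namespace H92.J4Rel.DataB

/-- conjugating words, first step first -/
def cs : List (List ℕ) := [[1,0,2,0,2,0,2,0,2,0,2,0,1,0,2,0,2,0], [], [2,0,2,0,2,0,2,2,0,2,0,2,0,2,2,0,2,0,2,0,2,1,0,2,0,2,0,2,0,2,0,2,0,1,0,2,0,2,0], []]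
def sigma : List (List ℕ × List (List ℕ) × List ℕ × List ℕ) := [
([1,0,2,0,2,0,2,0,2,0,2,0,1,0,2,0,2,0,2,0,2,0,2,0,1,0,1,0,2,0,2,2,0,2,0,2,0,1,0,1,0,2,0,2,2,0,2,0,2,0,1,0,1,0,2,0,2,0,2,0,2,0,2,0,1,0,1,0,2,0,2,2,0,2,0,2,0,1,0,1,0,2,0,2,0,2,0,2,0,2,0,1,0,1,0,2,0,2,0,1,0,1,0,2,0,1,0,1,0,1,0,1,0,1,0,2], [[1,1,1,0,1,1,0,1], [1,1,0,1,0,1,1,0,1,0,1,1,1,0,1,1,0,1,0,1,1,0], [0,1,1,1,0,1,0,1,0,1,1,1,0,1,1,0,1,0,1,1,1,0,1,0,1,0], [1,1,0,1,0,1,1,0,1,0,1,1,1,0,1,1,0,1,0,1,1,0]], [0,12,6,3,19,5,2,18,8,20,14,16,1,13,10,15,11,17,7,4,9,21,23,22], [631,628,4,1372,228,1793,180,1953,503,1879,1271]),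
([1,0,2,0,2,0,2,0,2,0,2,0,1,0,2,0,2,0,0,2,0,2,0,2,0,1,0,1,0,2,0,2,2,0,2,0,2,0,1,0,1,0,2,0,2,2,0,2,0,2,0,1,0,1,0,2,0,2,0,2,0,2,0,2,0,1,0,1,0,2,0,2,2,0,2,0,2,0,1,0,1,0,2,0,2,0,2,0,2,0,2,0,1,0,1,0,2,0,2,0,0,1,0,1,0,2,0,1,0,1,0,1,0,1,0,1,0,2], [[0,1,1,1,0,1,1,0,1,0], [0,1,0,1,1,0,1,0,1,1,1,0,1,1,0,1,0,1,1,0], [1,1,1,0,1,0,1,0,1,1,1,0,1,1,0,1,0,1,1,1,0,1,0,1], [0,1,0,1,1,0,1,0,1,1,1,0,1,1,0,1,0,1,1,0]], [0,18,6,15,23,5,2,12,13,20,10,11,7,8,14,3,16,17,1,22,9,21,19,4], [1040,1638,1527,827,903,1760,418,947,885,1879,902]),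
([1,0,2,0,2,0,2,0,2,0,2,0,1,0,2,0,2,0,2,0,2,0,2,0,1,0,1,0,2,0,2,2,0,2,0,2,0,1,0,1,0,2,0,2,0,2,0,2,0,2,0,1,0,1,0,2,0,2,0,2,0,2,0,2,0,1,0,1,0,2,0,2,2,0,2,0,2,0,1,0,1,0,2,0,2,0,2,0,2,0,2,0,1,0,1,0,2,0,2,2,0,2,0,2,0,1,0,1,0,2,0,2,2,0,2,0,2,0,1,0,1,0,2,0,2,0,2,0,2,0,2,0,1,0,1,0,2,0,2,0,2,0,2,0,2,0,1,0,1,0,2,0,2,0,2,0,2,0,2,0,1,0,1,0,2,0,2,0,0,1,0,1,0,2,0,1,0,1,0,1,0,1,0,1,0,2], [[1,1,0,1,0,1,1,0,1,1,1,0,1,0,1,0,1,0], [0,1,0,1,0,1,1,0,1,0,1,0,1,0,1,1,0,1,0,1,1,1,0,1,1,0,1,0], [0,1,1,0,1,0,1,1,0,1,1,1,0,1,0,1,0,1], [0,1,0,1,0,1,1,0,1,0,1,0,1,0,1,1,0,1,0,1,1,1,0,1,1,0,1,0]], [0,18,6,14,19,17,2,12,11,9,3,13,1,16,15,10,8,5,7,22,20,21,23,4], [860,702,380,1060,1804,450,1725,1899,220,38,1188]),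
([1,0,2,0,2,0,2,0,2,0,2,0,1,0,2,0,2,0,0,2,0,2,0,2,0,1,0,1,0,2,0,2,2,0,2,0,2,0,1,0,1,0,2,0,2,0,2,0,2,0,2,0,1,0,1,0,2,0,2,0,2,0,2,0,2,0,1,0,1,0,2,0,2,2,0,2,0,2,0,1,0,1,0,2,0,2,0,2,0,2,0,2,0,1,0,1,0,2,0,2,2,0,2,0,2,0,1,0,1,0,2,0,2,2,0,2,0,2,0,1,0,1,0,2,0,2,0,2,0,2,0,2,0,1,0,1,0,2,0,2,0,2,0,2,0,2,0,1,0,1,0,2,0,2,0,2,0,2,0,2,0,1,0,1,0,2,0,2,0,1,0,1,0,2,0,1,0,1,0,1,0,1,0,1,0,2], [[0,1,1,0,1,0,1,1,0,1,1,1,0,1,0,1,0,1], [1,0,1,1,0,1,0,1,1,1,0,1,0,1,1,1,0,1,0,1,0,1,1,0,1,1,1,0,1,0], [1,1,0,1,0,1,1,0,1,1,1,0,1,0,1,0,1,0], [1,0,1,1,0,1,0,1,1,1,0,1,0,1,1,1,0,1,0,1,0,1,1,0,1,1,1,0,1,0]], [21,12,2,14,23,5,6,18,11,20,3,13,7,16,15,10,8,17,1,4,9,0,19,22], [1977,1070,303,1477,1001,112,45,1674,762,1879,1745]),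
([1,0,2,0,2,0,2,0,2,0,2,0,1,0,2,0,2,0,2,0,2,0,2,0,1,0,1,0,2,0,2,2,0,2,0,2,0,1,0,1,0,2,0,2,0,2,0,2,0,2,0,1,0,1,0,2,0,2,2,0,2,0,2,0,1,0,1,0,2,0,2,0,2,0,2,0,2,0,1,0,1,0,2,0,2,2,0,2,0,2,0,1,0,1,0,2,0,2,0,2,0,2,0,2,0,1,0,1,0,2,0,2,2,0,2,0,2,0,1,0,1,0,2,0,2,0,2,0,2,0,2,0,1,0,1,0,2,0,2,2,0,2,0,2,0,1,0,1,0,2,0,2,0,2,0,2,0,2,0,1,0,1,0,2,0,2,2,0,2,0,2,0,1,0,1,0,2,0,2,0,1,0,1,0,2,0,1,0,1,0,1,0,1,0,1,0,2], [[1,1,0,1,1,0,1,1,0,1,1,0,1,1,0,1,1], [0,1,0,1,1,1,0,1,0,1,0,1,1,1,0,1,1,1,0,1,0,1,1,1,0], [1,1,0,1,0,1,0,1,1,1,0,1,0,1,0,1,1,1,0,1,0,1,0,1,0], [0,1,0,1,1,1,0,1,0,1,0,1,1,1,0,1,1,1,0,1,0,1,1,1,0]], [9,19,5,13,18,2,17,23,15,0,16,14,22,3,11,8,10,6,4,1,21,20,12,7],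 [1968,1010,1959,1484,992,583,757,565,935,304,260]),
([1,0,2,0,2,0,2,0,2,0,2,0,1,0,2,0,2,0,2,0,2,0,2,0,1,0,1,0,2,0,2,0,2,0,2,0,2,0,1,0,1,0,2,0,2,0,2,0,2,0,2,0,1,0,1,0,2,0,2,2,0,2,0,2,0,1,0,1,0,2,0,2,0,2,0,2,0,2,0,1,0,1,0,2,0,2,2,0,2,0,2,0,1,0,1,0,2,0,2,2,0,2,0,2,0,1,0,1,0,2,0,2,0,2,0,2,0,2,0,1,0,1,0,2,0,2,0,2,0,2,0,2,0,1,0,1,0,2,0,2,2,0,2,0,2,0,1,0,1,0,2,0,2,0,2,0,2,0,2,0,1,0,1,0,2,0,2,2,0,2,0,2,0,1,0,1,0,2,0,2,0,1,0,1,0,2,0,1,0,1,0,1,0,1,0,1,0,2], [[1,0,1,0,1,1,0,1,1,1,0,1,0,1,1,0,1,1], [1,0,1,1,1,0,1,1,1,0,1,1,0,1,1,0,1,1,0,1,0,1,0], [0,1,1,0,1,1,0,1,0,1,1,0,1,0,1,1,0,1,1,0,1,0,1,1,0,1], [1,0,1,1,1,0,1,1,1,0,1,1,0,1,1,0,1,1,0,1,0,1,0]], [6,19,21,10,12,9,0,23,16,5,3,13,4,11,15,14,8,20,22,1,17,2,18,7],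 [1492,1395,1902,1726,1538,1354,391,640,1289,512,1891]),
([1,0,2,0,2,0,2,0,2,0,2,0,1,0,2,0,2,0,2,0,2,0,2,0,1,0,1,0,2,0,2,0,2,0,2,0,2,0,1,0,1,0,2,0,2,0,2,0,2,0,2,0,1,0,1,0,2,0,2,2,0,2,0,2,0,1,0,1,0,2,0,2,0,2,0,2,0,2,0,1,0,1,0,2,0,2,2,0,2,0,2,0,1,0,1,0,2,0,2,2,0,2,0,2,0,1,0,1,0,2,0,2,0,2,0,2,0,2,0,1,0,1,0,2,0,2,2,0,2,0,2,0,1,0,1,0,2,0,2,2,0,2,0,2,0,1,0,1,0,2,0,2,0,2,0,2,0,2,0,1,0,1,0,2,0,2,2,0,2,0,2,0,1,0,1,0,2,0,2,0,2,0,2,0,2,0,1,0,1,0,2,0,2,2,0,2,0,2,0,1,0,1,0,2,0,2,0,2,0,2,0,2,0,1,0,1,0,2,0,2,2,0,2,0,2,0,1,0,1,0,2,0,2,0,1,0,1,0,2,0,1,0,1,0,1,0,1,0,1,0,2], [[1,0,1,0,1,1,0,1,1,1,0,1,1,1,0,1,1,0,1,1,0,1,1], [0,1,0,1,1,1,0,1,1,0,1,0,1,1,0,1,0,1,1,0,1,1,1,0,1,0],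 [1,1,1,0,1,0,1,0,1,1,1,0,1,0,1,0,1,1,1,0,1,0,1], [0,1,0,1,1,1,0,1,1,0,1,0,1,1,0,1,0,1,1,0,1,1,1,0,1,0]], [17,1,20,16,22,0,9,7,10,2,13,3,18,14,8,11,15,21,12,19,6,5,4,23], [1572,1459,696,575,966,1640,631,773,223,304,1891]),
([1,0,2,0,2,0,2,0,2,0,2,0,1,0,2,0,2,0,2,0,2,0,2,0,1,0,1,0,2,0,2,0,2,0,2,0,2,0,1,0,1,0,2,0,2,2,0,2,0,2,0,1,0,1,0,2,0,2,2,0,2,0,2,0,1,0,1,0,2,0,2,0,2,0,2,0,2,0,1,0,1,0,2,0,2,2,0,2,0,2,0,1,0,1,0,2,0,2,0,2,0,2,0,2,0,1,0,1,0,2,0,2,2,0,2,0,2,0,1,0,1,0,2,0,2,0,2,0,2,0,2,0,1,0,1,0,2,0,2,2,0,2,0,2,0,1,0,1,0,2,0,2,0,2,0,2,0,2,0,1,0,1,0,2,0,2,0,2,0,2,0,2,0,1,0,1,0,2,0,2,2,0,2,0,2,0,1,0,1,0,2,0,2,2,0,2,0,2,0,1,0,1,0,2,0,2,0,1,0,1,0,2,0,1,0,1,0,1,0,1,0,1,0,2],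 [[1,0,1,1,1,0,1,1,0,1,1,0,1,1,0,1,0,1,1,1], [1,0,1,1,1,0,1,1,1,0,1,0,1,1,1,0,1,0,1,1,1,0,1,0,1,0,1], [1,0,1,1,1,0,1,1,0,1,1,0,1,1,0,1,0,1,1,1], [1,0,1,1,1,0,1,1,1,0,1,0,1,1,1,0,1,0,1,1,1,0,1,0,1,0,1]], [6,23,21,3,12,20,0,19,8,17,10,11,4,13,14,15,16,9,22,7,5,2,18,1], [1661,575,997,565,285,508,637,1484,1696,1393,65])]
def vecFix : List (List (List ℕ)) := [[[5], [0,1,1,1,0,1,0,1,0,1,1,0,1,1,1,0,1,0,1,1,1,0,1,0,1,0,1,0,4,2], [1,0,1,1,1,0,1,0,1,1,0,1,0,1,0,1,1,0,1,0,1,1,1,0,1,1,5], [4,2]], [[9,6,3], [1,0,1,1,0,1,0,1,0,1,1,0,1,1,1,0,1,1,1,0,1,1,0,8,7,6,3], [0,1,1,0,1,1,0,1,0,1,1,0,1,0,1,1,0,1,1,0,1,0,1,1,0,1,9,6,5,4], [3]], [[9,6,4], [1,0,1,1,0,1,0,1,0,1,1,0,1,1,1,0,1,1,1,0,1,1,0,3],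 [0,1,0,1,0,1,1,0,1,1,1,0,1,0,1,1,0,1,1,0,9,6,5,3], [0,1,1,0,1,1,1,0,1,0,1,1,0,1,0,1,0,1,1,0,1,0,1,1,1,0,1,0,8,7,6,3]]]
def pairG : List ℕ := [0,2,2,0,2,0,2,0,2,2,0,2,0]
def tree : List (ℕ × ℕ × ℕ) := [(12,0,1),(18,1,1),(15,1,3),(7,1,12),(14,2,3),(10,2,15),(21,3,0),(9,4,0),(19,4,1),(13,4,3),(23,4,7),(16,4,10),(22,4,12),(11,4,14),(8,4,15),(4,4,18),(20,4,21),(6,5,0),(5,5,9),(17,5,20),(2,5,21)]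
def cand : List (List ℕ) := [[2,0,2,0,2,0,2,2,0,2,0,2,0,2,2,0,2,0,2,0,2,2,0,2,0,2,0,2,2,0,2,0,2,0,2,2,0,2,0,2,0,2], [], [1,0,2,0,2,0,2,0,2,0,2,0,1,0,2,0,2,0,2,0,2,0,2,0,1,0,1,0,2,0,2,2,0,2,0,2,0,1,0,1,0,2,0,2,2,0,2,0,2,0,1,0,1,0,2,0,2,0,2,0,2,0,2,0,1,0,1,0,2,0,2,2,0,2,0,2,0,1,0,1,0,2,0,2,2,0,2,0,2,0,1,0,1,0,2,0,2,0,2,0,2,0,2,0,1,0,1,0,2,0,2,0,2,0,2,0,2,0,1,0,1,0,2,0,2,2,0,2,0,2,0,1,0,1,0,2,0,2,2,0,2,0,2,0,1,0,1,0,2,0,2,0,2,0,2,0,2,0,1,0,1,0,2,0,2,2,0,2,0,2,0,1,0,1,0,2,0,2,0,2,0,2,0,2,0,1,0,1,0,2,0,2,0,2,0,2,0,2,0,1,0,1,0,2,0,2,2,0,2,0,2,0,1,0,1,0,2,0,2,2,0,2,0,2,0,1,0,1,0,2,0,2,0,2,0,2,0,2,0,1,0,1,0,2,0,2,0,2,0,2,0,2,0,1,0,1,0,2,0,2,0,1,0,1,0,2,0,1,0,1,0,1,0,1,0,1,0,2],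 [1,0,2,0,2,0,2,0,2,0,2,0,1,0,2,0,2,0,2,0,2,0,2,0,1,0,1,0,2,0,2,0,2,0,2,0,2,0,1,0,1,0,2,0,2,2,0,2,0,2,0,1,0,1,0,2,0,2,2,0,2,0,2,0,1,0,1,0,2,0,2,0,2,0,2,0,2,0,1,0,1,0,2,0,2,0,2,0,2,0,2,0,1,0,1,0,2,0,2,2,0,2,0,2,0,1,0,1,0,2,0,2,0,2,0,2,0,2,0,1,0,1,0,2,0,2,0,2,0,2,0,2,0,1,0,1,0,2,0,2,0,2,0,2,0,2,0,1,0,1,0,2,0,2,2,0,2,0,2,0,1,0,1,0,2,0,2,0,2,0,2,0,2,0,1,0,1,0,2,0,2,0,2,0,2,0,2,0,1,0,1,0,2,0,2,2,0,2,0,2,0,1,0,1,0,2,0,2,2,0,2,0,2,0,1,0,1,0,2,0,2,0,2,0,2,0,2,0,1,0,1,0,2,0,2,2,0,2,0,2,0,1,0,1,0,2,0,2,0,1,0,1,0,2,0,1,0,1,0,1,0,1,0,1,0,2]]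
def surv : List ℕ := [0,629,1284,1905]
/-- exclusion of the nonzero masks, candidate by candidate -/
def kill : List (ℕ × List ℕ) := [(1, [1,1,1,0,1,1,0,1,0,1,1,1,0,1,1,0,1,0,5]), (0, [1,1,8,7,6,4,2]), (0, [1,1,8,7,6]), (1, [5]), (0, [8,7,6,4,2]), (0, [8,7,6]), (1, [1,1,1,0,1,1,1,0,1,0,1,1,1,0,1,1,0,1,0,1,1,1,0,1,0,1,5]), (0, [0,1,1,0,1,1,1,0,1,0,1,1,0,1,0,1,0,1,1,0,1,0,1,1,1,0,1,0,8,7,6,4,2]), (0, [0,1,1,0,1,1,1,0,1,0,1,1,0,1,0,1,0,1,1,0,1,0,1,1,1,0,1,0,8,7,6]), (1, [1,0,1,1,1,0,1,0,1,1,0,1,0,1,0,1,1,0,1,0,1,1,1,0,1,1,5]), (0, [0,1,1,1,0,1,0,1,0,1,1,0,1,1,1,0,1,0,1,1,1,0,1,0,1,0,1,0,8,7,6,4,2]), (0, [0,1,1,1,0,1,0,1,0,1,1,0,1,1,1,0,1,0,1,1,1,0,1,0,1,0,1,0,8,7,6])]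
def mM : List ℕ := [1,0,2,0,1,0,2,0,1,0,2,0,0,1,0,1,0,2,0,2,0,2,0,2,0,1,0,2,0,1,0,1,0,2,0,1,0,2,0,1,0,2,0,2,0,2,0,1,0,2,0,1,0,2]
def gL0 : List ℕ := [0,1,0,2,0,1,0,2,0,0,1,0,1,0,1,0,1,0,1,0,1,0,1,0,2,0,2,0,2,0,2,0,2,0,2,0,2,0]
def rL0 : List (List ℕ × List ℕ) := [([1,0,2,0,1,0,2,0,1,0,2,0,0,1,0,1,0,2,0,2,0,2,0,2,0,1,0,2,0,1,0,1,0,2,0,1,0,2,0,1,0,2,0,2,0,2,0,1,0,2,0,1,0,2], [1,1,0,1,1,1,0,1,0,1,0,1,0,1,0,1,0,1,1,0,1,0,1,1,0]), ([0,1,0,2,0,1,0,2,0,0,1,0,1,0,1,0,1,0,1,0,1,0,1,0,2,0,2,0,2,0,2,0,2,0,2,0,2,0,2,0,1,0,2,0,1,0,2], []), ([], [1,0,1,1,1,0,1,1,0,1,1,0,1,0,1,1,1,0])]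
def gL1 : List ℕ := [1,0,2,0,1,0,2,0,1,0,2,0,0,1,0,1,0,2,0,2,0,2,0,2,0,1,0,2,0,1,0,1,0,2,0,1,0,2,0,1,0,2,0,2,0]
def rL1 : List (List ℕ × List ℕ) := [([1,0,2,0,2,0,2,0,2,0,2,0,1,0,2,0,2,0], [0,1,0,1,0,1,0,1,1,0,1,1,0,1,0,1,0,1,1,1,0,1,1,1]), ([1,0,2,0,1,0,2,0,1,0,2,0,0,1,0,1,0,2,0,2,0,2,0,2,0,1,0,2,0,1,0,1,0,2,0,1,0,2,0,1,0,2,0,2,0,2,0,1,0,2,0,1,0,2], []), ([2,0,2,0,2,0,2,2,0,2,0,2,0,2,2,0,2,0,2,0,2,1,0,2,0,2,0,2,0,2,0,2,0,1,0,2,0,2,0], [1,1,1,0,1,0,1,1,0,1,1,0,1,1,0,1,0,1,1,0,1,0,1,1,0,1,0])]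
def gL2 : List ℕ := [1,0,2,0,1,0,2,0,1,0,2,0,0,1,0,1,0,2,0,2,0,1,0,2,0,1,0,2,0,2,0,2,0,2,0,2,0,2,0,2,0,2,0,2,0,2,0,1,0,2,0,2,0,1,0,2,0,2,0,2,0,2,0]
def rL2 : List (List ℕ × List ℕ) := [([0,2,0,2,0,2,0,1,0,1,0,2,0,2,2,0,2,0,2,0,1,0,1,0,2,0,2,2,0,2,0,2,0,1,0,1,0,2,0,2,0,2,0,2,0,2,0,1,0,1,0,2,0,2,0,2,0,2,0,2,0,1,0,1,0,2,0,2,0,2,0,2,0,2,0,1,0,1,0,2,0,2,2,0,2,0,2,0,1,0,1,0,2,0,2,2,0,2,0,2,0,1,0,1,0,2,0,2,0,2,0,2,0,2,0,1,0,1,0,2,0,2,0,1,0,2,0,2,0,2,0,2,0,2,0,1,0,2,0,2,0], [0,1,1,1,0,1,1,0,1,0,1,1,0,1,0,1,1,0,1,1,1,0,1,0,1,0]), ([0,2,0,2,0,2,0,1,0,1,0,2,0,2,0,2,0,2,0,2,0,1,0,1,0,2,0,2,2,0,2,0,2,0,1,0,1,0,2,0,2,0,2,0,2,0,2,0,1,0,1,0,2,0,2,0,2,0,2,0,2,0,1,0,1,0,2,0,2,2,0,2,0,2,0,1,0,1,0,2,0,2,2,0,2,0,2,0,1,0,1,0,2,0,2,0,2,0,2,0,2,0,1,0,1,0,2,0,2,0,2,0,2,0,2,0,1,0,1,0,2,0,2,0,2,0,2,0,2,0,1,0,1,0,2,0,2,0,2,0,2,0,2,0,1,0,1,0,2,0,2,0,2,0,2,0,2,0,1,0,1,0,2,0,2,0,1,0,2,0,2,0,2,0,2,0,2,0,1,0,2,0,2,0],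 [1,1,1,0,1,1,0,1,1,1,0,1,0,1,0,1,1,0,1,0]), ([1,0,2,0,2,0,2,0,2,0,2,0,1,0,2,0,2,0], [1,1,0,1,1,0,1,0,1,1,0,1,1,0,1,1,0,1,1,1,0,1,1,1,0,1,0])]
def moves : List (List ℕ × List ℕ × List ℕ) := [([0,2,0,2,0,2,0,1,0,1,0,2,0,2,2,0,2,0,2,0,1,0,1,0,2,0,2,2,0,2,0,2,0,1,0,1,0,2,0,2,0,2,0,2,0,2,0,1,0,1,0,2,0,2,0,2,0,2,0,2,0,1,0,1,0,2,0,2,0,2,0,2,0,2,0,1,0,1,0,2,0,2,2,0,2,0,2,0,1,0,1,0,2,0,2,2,0,2,0,2,0,1,0,1,0,2,0,2,0,2,0,2,0,2,0,1,0,1,0,2,0,2,0], [0,1,1,1,0,1,0,1,0,1,1,1,0,1,0], [1,0,1,0,1,1,0,1,1,0,1,1,1,0,1,1,1,0,1,1,0,1,1,0,1,0,1,0]), ([0,2,0,2,0,2,0,1,0,1,0,2,0,2,0,2,0,2,0,2,0,1,0,1,0,2,0,2,2,0,2,0,2,0,1,0,1,0,2,0,2,0,2,0,2,0,2,0,1,0,1,0,2,0,2,0,2,0,2,0,2,0,1,0,1,0,2,0,2,2,0,2,0,2,0,1,0,1,0,2,0,2,2,0,2,0,2,0,1,0,1,0,2,0,2,0,2,0,2,0,2,0,1,0,1,0,2,0,2,0,2,0,2,0,2,0,1,0,1,0,2,0,2,0,2,0,2,0,2,0,1,0,1,0,2,0,2,0,2,0,2,0,2,0,1,0,1,0,2,0,2,0,2,0,2,0,2,0,1,0,1,0,2,0,2,0],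 [0,1,0,1,1,0,1,0,1,1,1,0,1,0,1,0,1,0,1,0,1,0], [1,0,1,0,1,1,0,1,1,1,0,1,1,0,1,0,1,0,1,1,0,1,1,0,1,1])]
def sym : List ℕ := [1,0,2,0,2,0,2,0,2,0,2,0,1,0,2,0,2,0,0,2,0,2,0,2,0,1,0,1,0,2,0,2,0,2,0,2,0,2,0,1,0,1,0,2,0,2,2,0,2,0,2,0,1,0,1,0,2,0,2,0,2,0,2,0,2,0,1,0,1,0,2,0,2,2,0,2,0,2,0,1,0,1,0,2,0,2,2,0,2,0,2,0,1,0,1,0,2,0,2,0,2,0,2,0,2,0,1,0,1,0,2,0,2,0,2,0,2,0,2,0,1,0,1,0,2,0,2,0,2,0,2,0,2,0,1,0,1,0,2,0,2,2,0,2,0,2,0,1,0,1,0,2,0,2,0]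
def symU : List (List ℕ) := [[0,1,0,1,1,0,1,1,1,0,1,0,1,0,1,1,0], [0,1,0,1,0,1,0,1,0,1,1,1,0,1,1,0,1,0,1,0,1,0,1,0,1,1,0], [0,1,0,1,1,0,1,1,1,0,1,1,1,0,1,0,1,1,1,0,1,0,1,1,0,1,1]]
def candM : List (List ℕ) := [[0,1,0,1,1,0,1,1,0,1,1,0,1,1,0,1,1,0,1,0], [], [1,1,1,0,1,1,1,0,1,0,1,1,0,1,0,1,0,1,1,0,1,0,1,1,1,0], [1,0,1,0,1,0,1,1,1,0,1,0,1,0,1,1,1,0,1,0,1,0,1,1]]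
def piT : List ℕ := [0,1,1,0,1,1,0,1,0,1,1,1,0,1,0,1,0,1,0,1,0,1,0,1,1,1,0]
def piU : List ℕ := [1,1,1,0,1,1,0,1,0,1,1,1,0,1,1,0,1,0]
def piU2 : List ℕ := []

end H92.J4Rel.DataB
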