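import Mathlib

/-! Generated data for the relation of three conjugates of t with a common octad. -/

set_option autoImplicit false
set_option linter.all false

namespace H92.J4Rel.DataA

/-- the three conjugating words in the order of the product -/
def cs : List (List ℕ) := [[2,2,0,1,0,2,0,1,0,2], [2,0,1,0,2,0,1,0,2], [0,1,0,2,0,1,0,2]]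
/-- commuting words with their combinations -/
def sigma : List (List ℕ × List (List ℕ) × List ℕ × List ℕ) := [
([0,1,0,2,0,1,0,2,0,2,0,2,0,2,0,1,0,1,0,2,0,2,2,0,2,0,2,0,1,0,1,0,2,0,2,0,2,0,2,0,2,0,1,0,1,0,2,0,2,2,0,2,0,2,0,1,0,1,0,2,0,2,2,0,2,0,2,0,1,0,1,0,2,0,2,0,2,0,2,0,2,0,1,0,1,0,2,0,2,2,0,2,0,2,0,1,0,1,0,2,0,2,2,0,2,0,2,0,1,0,1,0,2,0,2,0,2,0,2,0,2,0,1,0,1,0,2,0,2,2,0,2,0,2,0,1,0,1,0,2,0,2,0,2,0,2,0,2,0,1,0,1,0,2,0,2,0,2,0,2,0,2,0,1,0,1,0,2,0,2,0,2,0,2,0,2,0,1,0,1,0,2,0,2,2,0,2,0,2,0,1,0,1,0,2,0,2,0,1,0,2,0,1,0,2,0], [[0,1,1,0,1,1,1,0,1,1,1,0,1,1,0,1,0,1,0,1,1,0], [1,1,0,1,1,0,1,1,1,0,1,1,1,0,1,1,0,1,0,1,0,1,1,0,1,1], [0,1,0,1,1,0,1,1,0,1,0,1,0,1,0,1,1,0,1,1,0,1,0,1]],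 [2,22,0,6,4,8,3,18,5,11,21,9,12,13,15,14,16,17,7,19,20,10,1,23], [1525,2,240,142,98,212,198,116,366,540,1134]),
([0,1,0,2,0,1,0,2,0,2,0,2,0,2,0,1,0,1,0,2,0,2,0,2,0,2,0,2,0,1,0,1,0,2,0,2,0,2,0,2,0,2,0,1,0,1,0,2,0,2,2,0,2,0,2,0,1,0,1,0,2,0,2,2,0,2,0,2,0,1,0,1,0,2,0,2,0,2,0,2,0,2,0,1,0,1,0,2,0,2,2,0,2,0,2,0,1,0,1,0,2,0,2,0,2,0,2,0,2,0,1,0,1,0,2,0,2,0,2,0,2,0,2,0,1,0,1,0,2,0,2,2,0,2,0,2,0,1,0,1,0,2,0,2,0,2,0,2,0,2,0,1,0,1,0,2,0,2,2,0,2,0,2,0,1,0,1,0,2,0,2,0,2,0,2,0,2,0,1,0,1,0,2,0,2,0,2,0,2,0,2,0,1,0,1,0,2,0,2,0,1,0,2,0,1,0,2,0], [[0,1,0,1,0,1,1,1,0,1,1,0,1,0,1,1,0,1,1,0,1,0,1,0], [0,1,1,1,0,1,0,1,1,0,1,1,1,0,1,1,0,1,1,0,1,1,0,1,0,1], [0,1,1,0,1,1,0,1,1,0,1,1,0,1,1,0]],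 [2,22,0,3,16,8,6,7,5,9,21,11,17,23,14,15,4,12,18,20,19,10,1,13], [1415,30,186,8,174,158,92,34,292,512,1060]),
([0,1,0,2,0,1,0,2,2,0,2,0,2,0,1,0,1,0,2,0,2,0,2,0,2,0,2,0,1,0,1,0,2,0,2,2,0,2,0,2,0,1,0,1,0,2,0,2,0,2,0,2,0,2,0,1,0,1,0,2,0,2,2,0,2,0,2,0,1,0,1,0,2,0,2,0,2,0,2,0,2,0,1,0,1,0,2,0,2,2,0,2,0,2,0,1,0,1,0,2,0,2,0,2,0,2,0,2,0,1,0,1,0,2,0,2,2,0,2,0,2,0,1,0,1,0,2,0,2,0,2,0,2,0,2,0,1,0,1,0,2,0,2,2,0,2,0,2,0,1,0,1,0,2,0,2,0,2,0,2,0,2,0,1,0,1,0,2,0,2,1,0,2,0,1,0,2,0], [[1,0,1,1,0,1,1,0,1,1,0,1,1,0,1,1,0,1], [1,1,0,1,0,1,1,1,0,1,0,1,1,1,0,1,0,1,0,1,1,0,1,1,1,0,1], [1,0,1,0,1,1,0,1,1,1,0,1,1,1,0,1,0,1,1,1,0,1,0,1,1,1,0]], [0,1,2,13,11,5,23,19,8,16,10,4,14,3,12,17,9,15,20,7,18,21,22,6],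 [843,1906,1908,1550,358,1798,310,128,1574,1318,806]),
([0,1,0,2,0,1,0,2,0,2,0,2,0,2,0,1,0,1,0,2,0,2,2,0,2,0,2,0,1,0,1,0,2,0,2,2,0,2,0,2,0,1,0,1,0,2,0,2,0,2,0,2,0,2,0,1,0,1,0,2,0,2,2,0,2,0,2,0,1,0,1,0,2,0,2,2,0,2,0,2,0,1,0,1,0,2,0,2,0,2,0,2,0,2,0,1,0,1,0,2,0,2,2,0,2,0,2,0,1,0,1,0,2,0,2,2,0,2,0,2,0,1,0,1,0,2,0,2,0,2,0,2,0,2,0,1,0,1,0,2,0,2,0,2,0,2,0,2,0,1,0,1,0,2,0,2,2,0,2,0,2,0,1,0,1,0,2,0,2,0,2,0,2,0,2,0,1,0,1,0,2,0,2,2,0,2,0,2,0,1,0,1,0,2,0,2,2,0,2,0,2,0,1,0,1,0,2,0,2,0,2,0,2,0,2,0,1,0,1,0,2,0,2,0,2,0,2,0,2,0,1,0,1,0,2,0,2,0,2,0,2,0,2,0,1,0,1,0,2,0,2,0,1,0,2,0,1,0,2,0], [[0,1,1,1,0,1,1,1,0,1,1,1,0,1,0,1,1,0,1,1,1,0,1,0,1,0,1,0], [1,0,1,0,1,0,1,1,1,0,1,1,0,1,0,1,1,1,0,1,0,1,1,1],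 [1,1,0,1,1,0,1,1,1,0,1,1,0,1,1,0,1,1,0,1,0,1,1,0,1,1]], [8,1,2,20,16,5,19,13,0,9,10,11,12,7,15,14,4,17,23,6,3,22,21,18], [1683,1582,1686,182,1772,1634,1538,62,270,1068,578]),
([0,1,0,2,0,1,0,2,2,0,2,0,2,0,1,0,1,0,2,0,2,2,0,2,0,2,0,1,0,1,0,2,0,2,2,0,2,0,2,0,1,0,1,0,2,0,2,0,2,0,2,0,2,0,1,0,1,0,2,0,2,0,2,0,2,0,2,0,1,0,1,0,2,0,2,2,0,2,0,2,0,1,0,1,0,2,0,2,0,2,0,2,0,2,0,1,0,1,0,2,0,2,0,2,0,2,0,2,0,1,0,1,0,2,0,2,2,0,2,0,2,0,1,0,1,0,2,0,2,0,2,0,2,0,2,0,1,0,1,0,2,0,2,2,0,2,0,2,0,1,0,1,0,2,0,2,2,0,2,0,2,0,1,0,1,0,2,0,2,0,2,0,2,0,2,0,1,0,1,0,2,0,2,2,0,2,0,2,0,1,0,1,0,2,0,2,0,2,0,2,0,2,0,1,0,1,0,2,0,2,2,0,2,0,2,0,1,0,1,0,2,0,2,2,0,2,0,2,0,1,0,1,0,2,0,2,0,2,0,2,0,2,0,1,0,1,0,2,0,2,1,0,2,0,1,0,2,0],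 [[1,1,1,0,1,0,1,1,0,1,0,1,1,0,1,1,1,0,1,1,0,1,1,1,0,1], [1,1,0,1,0,1,1,1,0,1,1,0,1,0,1,1,1,0], [1,1,0,1,0,1,1,0,1,1,1,0,1,1,0,1,1,0,1,1,0,1,0,1,0,1]], [0,5,10,3,16,1,6,13,8,12,2,17,9,7,15,14,4,11,23,19,20,21,22,18], [1,646,1606,1230,660,1714,1746,1174,1448,84,578]),
([0,1,0,2,0,1,0,2,0,2,0,2,0,2,0,1,0,1,0,2,0,2,2,0,2,0,2,0,1,0,1,0,2,0,2,0,2,0,2,0,2,0,1,0,1,0,2,0,2,2,0,2,0,2,0,1,0,1,0,2,0,2,2,0,2,0,2,0,1,0,1,0,2,0,2,0,2,0,2,0,2,0,1,0,1,0,2,0,2,0,2,0,2,0,2,0,1,0,1,0,2,0,2,2,0,2,0,2,0,1,0,1,0,2,0,2,0,2,0,2,0,2,0,1,0,1,0,2,0,2,0,2,0,2,0,2,0,1,0,1,0,2,0,2,0,2,0,2,0,2,0,1,0,1,0,2,0,2,2,0,2,0,2,0,1,0,1,0,2,0,2,0,2,0,2,0,2,0,1,0,1,0,2,0,2,0,2,0,2,0,2,0,1,0,1,0,2,0,2,0,2,0,2,0,2,0,1,0,1,0,2,0,2,0,1,0,2,0,1,0,2,0],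 [[0,1,1,0,1,1,1,0,1,0,1,1,0,1,0,1,0,1,1,0,1,0,1,0,1,0], [1,1,0,1,1,0,1,0,1,0,1,0,1,1,0,1,1,0,1,0,1,0,1,0], [0,1,1,1,0,1,0,1,0,1,1,1,0,1,0,1,0,1,1,1,0,1,0,1]], [8,5,10,20,4,1,19,7,0,12,2,17,9,13,14,15,16,11,18,6,3,22,21,23], [1683,1194,212,1136,1128,240,144,1064,1446,1656,1024]),
([0,1,0,2,0,1,0,2,0,2,0,2,0,2,0,1,0,1,0,2,0,2,2,0,2,0,2,0,1,0,1,0,2,0,2,0,2,0,2,0,2,0,1,0,1,0,2,0,2,2,0,2,0,2,0,1,0,1,0,2,0,2,0,2,0,2,0,2,0,1,0,1,0,2,0,2,2,0,2,0,2,0,1,0,1,0,2,0,2,0,2,0,2,0,2,0,1,0,1,0,2,0,2,2,0,2,0,2,0,1,0,1,0,2,0,2,2,0,2,0,2,0,1,0,1,0,2,0,2,0,2,0,2,0,2,0,1,0,1,0,2,0,2,0,2,0,2,0,2,0,1,0,1,0,2,0,2,0,2,0,2,0,2,0,1,0,1,0,2,0,2,2,0,2,0,2,0,1,0,1,0,2,0,2,1,0,2,0,1,0,2,0],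 [[0,1,1,0,1,1,0,1,1,0,1,1,1,0,1,0,1,0,1,1], [1,0,1,1,0,1,1,0,1,1,0,1,1,1,0,1,1,1,0,1,1,0,1,0,1,1], [1,0,1,0,1,0,1,0,1,0,1,1,0,1,1,0,1,1,1,0,1,1]], [8,1,5,20,15,10,3,18,22,9,2,12,17,7,14,16,4,11,13,19,6,21,0,23], [1599,762,50,692,38,1770,1080,1230,1798,72,1024]),
([0,1,0,2,0,1,0,2,2,0,2,0,2,0,1,0,1,0,2,0,2,2,0,2,0,2,0,1,0,1,0,2,0,2,0,2,0,2,0,2,0,1,0,1,0,2,0,2,0,2,0,2,0,2,0,1,0,1,0,2,0,2,0,2,0,2,0,2,0,1,0,1,0,2,0,2,2,0,2,0,2,0,1,0,1,0,2,0,2,2,0,2,0,2,0,1,0,1,0,2,0,2,0,2,0,2,0,2,0,1,0,1,0,2,0,2,2,0,2,0,2,0,1,0,1,0,2,0,2,0,2,0,2,0,2,0,1,0,1,0,2,0,2,0,2,0,2,0,2,0,1,0,1,0,2,0,2,2,0,2,0,2,0,1,0,1,0,2,0,2,0,2,0,2,0,2,0,1,0,1,0,2,0,2,0,2,0,2,0,2,0,1,0,1,0,2,0,2,2,0,2,0,2,0,1,0,1,0,2,0,2,0,1,0,2,0,1,0,2,0],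 [[1,1,0,1,0,1,0,1,1,1,0,1,1,0,1,0,1,1,0,1,0,1,1,0], [0,1,0,1,1,1,0,1,0,1,0,1,0,1,0,1,0,1,1,0,1,0,1,1], [0,1,0,1,0,1,0,1,1,0,1,1,0,1,1,0,1,1,0,1,0,1,1,1,0,1]], [21,2,10,6,4,5,19,13,0,17,1,11,9,23,16,14,15,12,18,3,20,8,22,7], [761,178,1172,1114,702,588,158,752,826,512,118]),
([0,1,0,2,0,1,0,2,0,2,0,2,0,2,0,1,0,1,0,2,0,2,2,0,2,0,2,0,1,0,1,0,2,0,2,0,2,0,2,0,2,0,1,0,1,0,2,0,2,2,0,2,0,2,0,1,0,1,0,2,0,2,0,2,0,2,0,2,0,1,0,1,0,2,0,2,0,2,0,2,0,2,0,1,0,1,0,2,0,2,0,2,0,2,0,2,0,1,0,1,0,2,0,2,2,0,2,0,2,0,1,0,1,0,2,0,2,2,0,2,0,2,0,1,0,1,0,2,0,2,0,2,0,2,0,2,0,1,0,1,0,2,0,2,0,2,0,2,0,2,0,1,0,1,0,2,0,2,2,0,2,0,2,0,1,0,1,0,2,0,2,0,2,0,2,0,2,0,1,0,1,0,2,0,2,2,0,2,0,2,0,1,0,1,0,2,0,2,2,0,2,0,2,0,1,0,1,0,2,0,2,0,1,0,2,0,1,0,2,0],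 [[0,1,1,0,1,1,0,1,0,1,0,1,1,1,0,1,0,1,1,0,1,1,1,0], [0,1,0,1,0,1,0,1,1,0,1,0,1,1,0,1,0,1,1,1,0,1,0,1], [0,1,0,1,0,1,1,0,1,0,1,0,1,1,1,0,1,0,1,0]], [0,5,1,19,16,2,6,23,21,11,10,17,12,13,4,15,14,9,7,20,3,22,8,18], [1,1086,1246,76,1586,726,4,1766,1948,1676,60]),
([0,1,0,2,0,1,0,2,2,0,2,0,2,0,1,0,1,0,2,0,2,0,2,0,2,0,2,0,1,0,1,0,2,0,2,2,0,2,0,2,0,1,0,1,0,2,0,2,0,2,0,2,0,2,0,1,0,1,0,2,0,2,0,2,0,2,0,2,0,1,0,1,0,2,0,2,0,2,0,2,0,2,0,1,0,1,0,2,0,2,0,2,0,2,0,2,0,1,0,1,0,2,0,2,0,2,0,2,0,2,0,1,0,1,0,2,0,2,2,0,2,0,2,0,1,0,1,0,2,0,2,2,0,2,0,2,0,1,0,1,0,2,0,2,0,2,0,2,0,2,0,1,0,1,0,2,0,2,2,0,2,0,2,0,1,0,1,0,2,0,2,0,2,0,2,0,2,0,1,0,1,0,2,0,2,2,0,2,0,2,0,1,0,1,0,2,0,2,0,2,0,2,0,2,0,1,0,1,0,2,0,2,2,0,2,0,2,0,1,0,1,0,2,0,2,0,2,0,2,0,2,0,1,0,1,0,2,0,2,0,1,0,2,0,1,0,2,0],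 [[1,0,1,1,0,1,0,1,0,1,0,1,0,1,1,1,0,1,1,0,1,1,0,1,1,0,1,0], [0,1,0,1,0,1,1,0,1,1,0,1,0,1,1,1,0,1,0,1], [1,0,1,0,1,1,1,0,1,1,0,1,0,1,0,1,1,0,1,1,0,1]], [22,10,2,20,16,1,3,23,8,9,5,12,17,13,4,15,14,11,7,19,6,0,21,18], [1225,1030,1038,116,1546,518,4,1758,2006,1716,60]),
([0,1,0,2,0,1,0,2,2,0,2,0,2,0,1,0,1,0,2,0,2,2,0,2,0,2,0,1,0,1,0,2,0,2,0,2,0,2,0,2,0,1,0,1,0,2,0,2,2,0,2,0,2,0,1,0,1,0,2,0,2,0,2,0,2,0,2,0,1,0,1,0,2,0,2,0,2,0,2,0,2,0,1,0,1,0,2,0,2,2,0,2,0,2,0,1,0,1,0,2,0,2,0,2,0,2,0,2,0,1,0,1,0,2,0,2,2,0,2,0,2,0,1,0,1,0,2,0,2,0,2,0,2,0,2,0,1,0,1,0,2,0,2,0,2,0,2,0,2,0,1,0,1,0,2,0,2,2,0,2,0,2,0,1,0,1,0,2,0,2,0,2,0,2,0,2,0,1,0,1,0,2,0,2,0,2,0,2,0,2,0,1,0,1,0,2,0,2,1,0,2,0,1,0,2,0],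 [[1,1,0,1,1,0,1,0,1,1,0,1,1,0,1,0,1,1,0,1,0,1], [1,1,0,1,1,0,1,0,1,1,0,1,1,0,1,0,1,1,0,1,0,1], [1,1,0,1,1,0,1,0,1,1,0,1,1,0,1,0,1,1,0,1,0,1]], [1,0,8,3,14,22,20,7,2,9,21,12,11,13,4,15,16,17,23,19,6,10,5,18], [475,126,120,116,636,1648,1148,1744,256,108,60]),
([0,1,0,2,0,1,0,2,0,2,0,2,0,2,0,1,0,1,0,2,0,2,2,0,2,0,2,0,1,0,1,0,2,0,2,2,0,2,0,2,0,1,0,1,0,2,0,2,0,2,0,2,0,2,0,1,0,1,0,2,0,2,0,2,0,2,0,2,0,1,0,1,0,2,0,2,2,0,2,0,2,0,1,0,1,0,2,0,2,0,2,0,2,0,2,0,1,0,1,0,2,0,2,2,0,2,0,2,0,1,0,1,0,2,0,2,2,0,2,0,2,0,1,0,1,0,2,0,2,0,2,0,2,0,2,0,1,0,1,0,2,0,2,2,0,2,0,2,0,1,0,1,0,2,0,2,0,2,0,2,0,2,0,1,0,1,0,2,0,2,2,0,2,0,2,0,1,0,1,0,2,0,2,0,2,0,2,0,2,0,1,0,1,0,2,0,2,2,0,2,0,2,0,1,0,1,0,2,0,2,0,2,0,2,0,2,0,1,0,1,0,2,0,2,0,2,0,2,0,2,0,1,0,1,0,2,0,2,1,0,2,0,1,0,2,0],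 [[0,1,1,1,0,1,0,1,1,0,1,1,1,0,1,1,0,1,1,0,1,1,0,1,0,1], [0,1,1,0,1,1,0,1,1,0,1,1,0,1,1,0], [0,1,0,1,0,1,1,1,0,1,1,0,1,0,1,1,0,1,1,0,1,0,1,0]], [5,21,8,3,4,0,6,7,2,11,22,9,12,23,15,14,16,17,18,20,19,1,10,13], [845,38,4,142,150,32,226,164,460,744,1098])]
/-- combinations fixing the pair vector -/
def pairFix : List (List ℕ) := [[5,3], [1,1,0,1,0,1,1,0,1,0,1,1,0,1,1,1,0,1,0,1,5,3], [1,0,1,1,1,0,1,0,1,1,0,1,0,1,0,1,1,0,1,0,1,1,1,0,1,1,5,3]]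
/-- combinations fixing the exceptional vector, one for each factor -/
def wFix : List (List ℕ) := [[4,3,2], [4,3,2], [4,3,2]]
/-- line 0 -/
def g0 : List ℕ := []
def rep0 : List (List ℕ × List ℕ) := [([2,2,0,1,0,2,0,1,0,2], []), ([2,0,1,0,2,0,1,0,2], []), ([0,1,0,2,0,1,0,2], [])]
def wm0 : ℕ := 208
/-- line 1 -/
def g1 : List ℕ := [0,1,0,1,0,2,0,1,0,2,0,2,0,2,0,2,0,1,0,2,0,2,0,1,0,1,0,1,0,1,0,2,0,2,0,2,0,1,0,1,0,1,0,2,0,2,0,2,0,2,0,2,0,0,1,0,1,0,2,0,1,0,2,0,2,0,2,0,2,0,1,0,2,0,2,0,1,0,2,0,2,0,1,0,2,0,1,0,2,0,2,0,2,0,1,0,2,0,2,0,2,0,2,0,2,0]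
def rep1 : List (List ℕ × List ℕ) := [([0,1,0,2,0,1,0,2,0,2,0,2,0,1,0,2,0,2,0,2,0,1,0,2,0,2,0,2,0,0,1,0,2,0,1,0,2], [0,1,0,1,0,1,0,1,0,1,1,0,1,0]), ([0,1,0,1,0,2,0,1,0,1,0,2,0,2,0,2,0,1,0,1,0,2,0,1,0,1,0,1,0,2,0,2,0,2,0,2,0,1,0,2,0,2,0,2,0,2,0,0,1,0,2,0,1,0,2], [0,1,0,1,1,0,1,0,1,1,1,0,1,0,1,0,1,1,0,1,1,1,0,1,1,0,1,1,0]), ([0,1,0,2,0,1,0,2], [0,1,1,1,0,1,1,0,1,1,0,1,1,1,0,1,1,1,0,1,1,0,1,0,1,0,1,1,0])]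
def wm1 : ℕ := 1750
/-- line 2 -/
def g2 : List ℕ := [0,1,0,1,0,1,0,1,0,1,0,1,0,1,0,2,0,2,0,2,0,2,0,2,0,2,0,2,0,0,1,0,1,0,1,0,1,0,1,0,2,0,1,0,1,0,1,0,2,0,1,0,2,0,2,0,2,0,1,0,1,0,2,0,1,0,2,0,2,0,2,0,1,0,2,0,2,0,2,0,2,0,2,0]
def rep2 : List (List ℕ × List ℕ) := [([0,1,0,2,0,1,0,2,0,2,0,2,0,1,0,2,0,2,0,2,0,1,0,2,0,2,0,2,0,0,1,0,2,0,1,0,2], [1,1,0,1,1,0,1,0,1,1,0,1,1,0,1,0,1,1,0,1,0,1,0,1,0]), ([0,1,0,1,0,1,0,1,0,1,0,2,0,1,0,1,0,1,0,2,0,1,0,2,0,2,0,2,0,1,0,1,0,2,0,1,0,2,0,2,0,2,0,1,0,2,0,2,0,2,0,2,0,2,0,2,0,1,0,2,0,1,0,2], [1,1,1,0,1,1,1,0,1,1,1,0,1,0,1,1,1,0,1,0,1,0,1]), ([2,0,1,0,2,0,1,0,2], [1,1,0,1,0,1,1,1,0,1,1,1,0,1,1,0,1,0,1,1,0,1])]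
def wm2 : ℕ := 672
/-- line 3 -/
def g3 : List ℕ := [0,1,0,1,0,1,0,1,0,1,0,2,0,2,0,2,0,2,0,2,0,1,0,1,0,2,0,2,0,2,0,1,0,2,0,1,0,1,0,1,0,2,0,2,0,2,0,2,0,0,1,0,1,0,1,0,1,0,1,0,1,0,1,0,2,0,2,0,2,0,2,0,2,0,2,0,2,0]
def rep3 : List (List ℕ × List ℕ) := [([2,2,0,1,0,2,0,1,0,2], [1,0,1,1,1,0,1,0,1,0,1,0,1,1,1,0,1,1]), ([0,1,0,1,0,2,0,1,0,1,0,2,0,2,0,2,0,1,0,1,0,2,0,1,0,1,0,1,0,2,0,2,0,2,0,2,0,1,0,2,0,2,0,2,0,2,0,0,1,0,2,0,1,0,2], [0,1,1,1,0,1,0,1,0,1,1,1,0,1,1,0,1,1,1,0,1,1]), ([0,1,0,1,0,1,0,1,0,1,0,2,0,1,0,1,0,1,0,2,0,1,0,2,0,2,0,2,0,1,0,1,0,2,0,1,0,2,0,2,0,2,0,1,0,2,0,2,0,2,0,2,0,2,0,2,0,1,0,2,0,1,0,2], [1,0,1,1,1,0,1,0,1,0,1,0,1,1,1,0,1,1,1,0,1,0,1,0])]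
def wm3 : ℕ := 1190
def moveC : List ℕ := [2,2,0,1,0,2,0,1,0,2]
def moveU : List ℕ := [6,5,2]

end H92.J4Rel.DataA
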