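import Mathlib
import Cfsg.Agent.H92.J4Rel.Defs

/-!
Normal forms of words in the fourteen letters of the model: a mask and a list of 24 images.
-/

set_option autoImplicit false
set_option maxRecDepth 100000

namespace H92.J4Rel

open H94.J4 (NN VV gen14 vec bv stepMask colsX colsY app appMask ev_apply)
open H54.J4 (Pres gA gB permX permY gen ev)
open H77.HN (evw)
open Cfsg (M24 GolayPt)

/-- action of the small presentation on 24 positions -/
noncomputable def perm24 : Pres →* Equiv.Perm (Fin 24) :=
  PresentedGroup.toGroup (f := ![permX, permY]) (by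
    rintro r ⟨w, hw, rfl⟩
    rw [H54.J4.map_ev]
    simpa using H54.J4.perm_rels w hw)

theorem perm24_gA : perm24 gA = permX := by simp [perm24, gA]
theorem perm24_gB : perm24 gB = permY := by simp [perm24, gB]

theorem toPts_perm24 (p : Pres) :
    H54.J4.toPts (perm24 p) = ((H54.J4.toM24 p : M24) : Equiv.Perm GolayPt) := by
  have h : H54.J4.toPts.comp perm24 = (Subgroup.subtype M24).comp H54.J4.toM24 :=
    MonoidHom.eq_of_eqOn_dense H54.J4.closure_gens (by
      rintro g (rfl | rfl)
      · simp [perm24_gA, H54.J4.toM24_gA, H54.J4.mA]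
      · simp [perm24_gB, H54.J4.toM24_gB, H54.J4.mB])
  exact DFunLike.congr_fun h p

theorem perm24_inj : Function.Injective perm24 := fun p q h => by
  refine H54.J4.toM24_bijective.1 (Subtype.ext ?_)
  rw [← toPts_perm24, ← toPts_perm24, h]

/-- packed images of the positions under the three permutation letters -/
def pkImg : ℕ → ℕ
  | 0 => 174553313134399556176169447506661898
  | 1 => 177456642505790549757749235058583584
  | _ => 484532321743146505182527216191378464

/-- image of a position under a letter -/
def imgLetter (l i : ℕ) : ℕ := (pkImg l >>> (5 * i)) &&& 31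

/-- packed table of a letter on the low six bits -/
def pkLo : ℕ → ℕ
  | 0 => 2590197762180491993965502141778627611005374963240524030088464575044496424235172014879428017804558348669805151228877930576428659166419801098615089630705909779014566393854812588923532031212183860720911605427081216
  | 1 => 10237586925879955551913925742341339357041624364529012506250171412421772241907312523770747274226572704335009240339669985419442952635315675892200767997277133798766198872471786706481139530458608828202036029389015040
  | _ => 4152583635893040261763557038060952056588261504314405351629569145428204812255611754661421587640749457698521828769917395123906699119435498218433012500405236697463130268844323688483458799769100691767877467470039040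

/-- packed table of a letter on the high five bits -/
def pkHi : ℕ → ℕ
  | 0 => 7458071254422534276189061996926346959315184184542805779219552109000014723028129510503882736995414445654016
  | 1 => 3657329038797266301213866054315746536628983592100668642054358361351604048920917170542680068926254071676928
  | _ => 6856931975096372512770383846717099865674997895163959859064847520391140811757474272772804021345734585516032

/-- a letter on masks by table look-up -/
def fastMask (l m : ℕ) : ℕ :=
  ((pkLo l >>> (11 * (m &&& 63))) &&& 2047) ^^^ ((pkHi l >>> (11 * (m >>> 6))) &&& 2047)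

theorem fast_ok : ((List.range 3).all fun l => (List.range 2048).all fun m =>
    Nat.beq (fastMask l m) (stepMask l m)) = true := by decide +kernel

theorem fastMask_eq {l m : ℕ} (hl : l < 3) (hm : m < 2048) : fastMask l m = stepMask l m := by
  have := List.all_eq_true.mp (List.all_eq_true.mp fast_ok l (List.mem_range.mpr hl)) m
    (List.mem_range.mpr hm)
  simpa using this

/-- one letter on a normal form -/
def nfStep (s : ℕ × List ℕ) (l : ℕ) : ℕ × List ℕ :=
  if l < 3 then (fastMask l s.1, s.2.map (imgLetter l))
  else if l < 14 then (s.1 ^^^ 2 ^ (l - 3), s.2)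
  else s

/-- the normal form of a word -/
def nf (w : List ℕ) : ℕ × List ℕ := w.foldl nfStep (0, List.range 24)

/-- the images of the positions -/
def imgs (π : Equiv.Perm (Fin 24)) : List ℕ := List.ofFn fun i => (π i : ℕ)

theorem imgs_one : imgs 1 = List.range 24 := by decide +kernel

theorem imgs_inj {π ρ : Equiv.Perm (Fin 24)} (h : imgs π = imgs ρ) : π = ρ := by
  have := List.ofFn_injective h
  exact Equiv.ext fun i => Fin.ext (congrFun this i)

theorem imgs_mul (π ρ : Equiv.Perm (Fin 24)) (f : ℕ → ℕ) (hf : ∀ i : Fin 24, (π i : ℕ) = f i) :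
    imgs (π * ρ) = (imgs ρ).map f := by
  simp only [imgs, List.map_ofFn, List.ofFn_inj]
  funext i
  exact hf (ρ i)

theorem img_gens : (∀ i : Fin 24, (permX i : ℕ) = imgLetter 0 i) ∧
    (∀ i : Fin 24, (permY i : ℕ) = imgLetter 1 i) ∧
    (∀ i : Fin 24, (permY (permY i) : ℕ) = imgLetter 2 i) := by decide +kernel

theorem vec_inj {a b : ℕ} (ha : a < 2048) (hb : b < 2048) (h : vec a = vec b) : a = b := by
  refine Nat.eq_of_testBit_eq fun k => ?_
  rcases lt_or_ge k 11 with hk | hk
  · have := congrFun (congrArg Multiplicative.toAdd h) ⟨k, hk⟩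
    simp only [vec, toAdd_ofAdd] at this
    cases e1 : a.testBit k <;> cases e2 : b.testBit k <;> simp [e1, e2] at this ⊢
  · have h2 : (2048 : ℕ) ≤ 2 ^ k := by
      calc (2048 : ℕ) = 2 ^ 11 := rfl
        _ ≤ 2 ^ k := Nat.pow_le_pow_right (by norm_num) hk
    rw [Nat.testBit_lt_two_pow (lt_of_lt_of_le ha h2),
      Nat.testBit_lt_two_pow (lt_of_lt_of_le hb h2)]

theorem exists_mask (v : VV) : ∃ m < 2048, vec m = v := by
  let S : Subgroup VV :=
    { carrier := {v | ∃ m < 2048, vec m = v}
      one_mem' := ⟨0, by norm_num, H94.J4.vec_zero⟩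
      mul_mem' := by
        rintro a b ⟨m, hm, rfl⟩ ⟨k, hk, rfl⟩
        exact ⟨m ^^^ k, Nat.xor_lt_two_pow (n := 11) hm hk, H94.J4.vec_xor m k⟩
      inv_mem' := by
        rintro a ⟨m, hm, rfl⟩
        refine ⟨m, hm, eq_inv_of_mul_eq_one_left ?_⟩
        rw [← H94.J4.vec_xor, Nat.xor_self, H94.J4.vec_zero] }
  have h : (⊤ : Subgroup VV) ≤ S := by
    rw [← H94.J4.closure_bv, Subgroup.closure_le]
    rintro _ ⟨j, rfl⟩
    exact ⟨2 ^ (j : ℕ), Nat.pow_lt_pow_right (by norm_num) j.2, H94.J4.vec_two_pow j⟩
  exact h (Subgroup.mem_top v)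

theorem app_lt : ∀ m, stepMask 0 m < 2048 ∧ stepMask 1 m < 2048 ∧ stepMask 2 m < 2048 := by
  have key : ∀ (cols : List ℕ), (∀ c ∈ cols, c < 2048) → ∀ m k, appMask cols m k < 2048 := by
    intro cols hc m k
    induction k with
    | zero => simp [appMask]
    | succ k ih =>
      simp only [appMask]
      refine Nat.xor_lt_two_pow (n := 11) ?_ ih
      split
      · rcases lt_or_ge k cols.length with h | h
        · rw [List.getD_eq_getElem _ _ h]; exact hc _ (List.getElem_mem h)
        · rw [List.getD_eq_default _ _ h]; norm_num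
      · norm_num
  have hX : ∀ c ∈ colsX, c < 2048 := by decide
  have hY : ∀ c ∈ colsY, c < 2048 := by decide
  exact fun m => ⟨key _ hX _ _, key _ hY _ _, key _ hY _ _⟩

/-- what the normal form says about the value -/
def Inv (n : NN) (s : ℕ × List ℕ) : Prop :=
  n.left = vec s.1 ∧ s.1 < 2048 ∧ imgs (perm24 n.right) = s.2

theorem inv_step {n : NN} {s : ℕ × List ℕ} (h : Inv n s) (l : ℕ) :
    Inv (gen14 l * n) (nfStep s l) := by
  obtain ⟨hl, hm, hp⟩ := h
  rcases lt_or_ge l 3 with h3 | h3
  · have e : nfStep s l = (stepMask l s.1, s.2.map (imgLetter l)) := by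
      simp [nfStep, h3, fastMask_eq h3 hm]
    rw [e]
    have eg : gen14 l = SemidirectProduct.inr (gen gA gB l) := by simp [gen14, h3]
    refine ⟨?_, ?_, ?_⟩
    · rw [eg, SemidirectProduct.mul_left, SemidirectProduct.left_inr, one_mul,
        SemidirectProduct.right_inr, hl]
      have := ev_apply [l] s.1
      simp only [ev, one_mul, H94.J4.runMask] at this
      rw [← this, ← H94.J4.act_gA, ← H94.J4.act_gB]
      congr 1
      simp only [gen]
      split
      · rfl
      · split
        · rfl
        · rw [map_mul]
    · interval_cases l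
      · exact (app_lt _).1
      · exact (app_lt _).2.1
      · exact (app_lt _).2.2
    · rw [eg, SemidirectProduct.mul_right, SemidirectProduct.right_inr, map_mul, ← hp]
      refine imgs_mul _ _ _ fun i => ?_
      obtain ⟨g0, g1, g2⟩ := img_gens
      interval_cases l
      · simpa [gen, perm24_gA] using g0 i
      · simpa [gen, perm24_gB] using g1 i
      · simpa [gen, perm24_gB] using g2 i
  · rcases lt_or_ge l 14 with h14 | h14
    · have e : nfStep s l = (s.1 ^^^ 2 ^ (l - 3), s.2) := by simp [nfStep, h14, show ¬ l < 3 by omega]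
      rw [e]
      obtain ⟨j, rfl⟩ : ∃ j : Fin 11, l = (j : ℕ) + 3 := ⟨⟨l - 3, by omega⟩, by simp; omega⟩
      rw [H94.J4.gen14_vec]
      refine ⟨?_, ?_, ?_⟩
      · rw [SemidirectProduct.mul_left, SemidirectProduct.left_inl, SemidirectProduct.right_inl,
          map_one, MulAut.one_apply, hl, H94.J4.vec_xor, mul_comm (vec s.1), Nat.add_sub_cancel,
          H94.J4.vec_two_pow]
      · exact Nat.xor_lt_two_pow (n := 11) hm
          (Nat.pow_lt_pow_right (by norm_num) (by have := j.2; omega))
      · rw [SemidirectProduct.mul_right, SemidirectProduct.right_inl, one_mul, hp]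
    · have e : nfStep s l = s := by
        simp [nfStep, show ¬ l < 3 by omega, show ¬ l < 14 by omega]
      rw [e, H94.J4.gen14_of_ge h14, one_mul]
      exact ⟨hl, hm, hp⟩

theorem inv_foldl : ∀ (w : List ℕ) {n : NN} {s : ℕ × List ℕ}, Inv n s →
    Inv (evw gen14 w * n) (w.foldl nfStep s) := by
  intro w
  induction w with
  | nil => intro n s h; simpa using h
  | cons l w ih =>
    intro n s h
    rw [H77.HN.evw_cons, List.foldl_cons, mul_assoc]
    exact ih (inv_step h l)

theorem inv_one : Inv (1 : NN) (0, List.range 24) :=
  ⟨(H94.J4.vec_zero).symm, by norm_num, by rw [SemidirectProduct.one_right, map_one, imgs_one]⟩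

theorem inv_nf (w : List ℕ) : Inv (evw gen14 w) (nf w) := by
  simpa [nf] using inv_foldl w inv_one

/-- equality in the model is equality of normal forms -/
theorem evw_eq_iff {u v : List ℕ} : evw gen14 u = evw gen14 v ↔ nf u = nf v := by
  obtain ⟨a1, b1, c1⟩ := inv_nf u
  obtain ⟨a2, b2, c2⟩ := inv_nf v
  constructor
  · intro h
    rw [h] at a1 c1
    exact Prod.ext (vec_inj b1 b2 (a1.symm.trans a2)) (c1.symm.trans c2)
  · intro h
    refine SemidirectProduct.ext (by rw [a1, a2, h]) (perm24_inj (imgs_inj ?_))
    rw [c1, c2, h]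

/-- the word of a mask -/
def mw (m : ℕ) : List ℕ := ((List.range 11).filter fun k => m.testBit k).map (· + 3)

theorem nf_mw : ((List.range 2048).all fun m => decide (nf (mw m) = (m, List.range 24))) = true := by
  decide +kernel

theorem evw_mw {m : ℕ} (hm : m < 2048) : evw gen14 (mw m) = vN m := by
  have e := List.all_eq_true.mp nf_mw m (List.mem_range.mpr hm)
  simp only [decide_eq_true_eq] at e
  obtain ⟨a, -, c⟩ := inv_nf (mw m)
  rw [e] at a c
  refine SemidirectProduct.ext (by simpa [vN] using a) (perm24_inj (imgs_inj ?_))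
  rw [c]
  simp [vN, imgs_one]

/-- inverse of a letter -/
def iv : ℕ → ℕ
  | 1 => 2
  | 2 => 1
  | l => l

/-- inverse word -/
def invW (w : List ℕ) : List ℕ := H77.HN.invw iv w

theorem gen14_iv (l : ℕ) : gen14 (iv l) = (gen14 l)⁻¹ := by
  refine eq_inv_of_mul_eq_one_left ?_
  rcases lt_or_ge l 14 with h | h
  · have hk : ((List.range 14).all fun l => decide (nf [l, iv l] = nf [])) = true := by
      decide +kernel
    have := List.all_eq_true.mp hk l (List.mem_range.mpr h)
    simp only [decide_eq_true_eq] at this
    have := evw_eq_iff.2 this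
    simpa using this
  · have : iv l = l := by
      rcases l with _ | _ | _ | l <;> simp_all [iv]
    rw [this, H94.J4.gen14_of_ge h, one_mul]

theorem evw_invW (w : List ℕ) : evw gen14 (invW w) = (evw gen14 w)⁻¹ :=
  H77.HN.evw_invw gen14_iv w

end H92.J4Rel
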