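import Mathlib
import Cfsg.Agent.H92.J4Rel.Nf

/-!
Conjugates of t by words and their action on the copy of the model.
-/

set_option autoImplicit false
set_option maxRecDepth 100000

namespace H92.J4Rel

open H94.J4 (NN gen14 vec)
open H77.HN (evw)

/-- first components of a combination of primary pairs -/
def srcW (u : List ℕ) : List ℕ := u.flatMap fun k => (H94.J4.Data.prim.getD k ([], [])).1
/-- second components -/
def dstW (u : List ℕ) : List ℕ := u.flatMap fun k => (H94.J4.Data.prim.getD k ([], [])).2

/-- one checked step: the word `n` is moved by the conjugate at `c` -/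
def stepOK (c u n : List ℕ) : Bool := decide (nf (invW c ++ n ++ c) = nf (srcW u))

/-- the result of a step -/
def stepW (c u : List ℕ) : List ℕ := c ++ dstW u ++ invW c

/-- a list of steps, the first one applied first -/
def stepsOK : List (List ℕ × List ℕ) → List ℕ → Bool
  | [], _ => true
  | (c, u) :: L, n => stepOK c u n && stepsOK L (stepW c u)

/-- the result of a list of steps -/
def stepsW : List (List ℕ × List ℕ) → List ℕ → List ℕ
  | [], n => n
  | (c, u) :: L, _ => stepsW L (stepW c u)

/-- a word fixed by a list of steps -/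
def fixOK (L : List (List ℕ × List ℕ)) (n : List ℕ) : Bool :=
  stepsOK L n && decide (nf (stepsW L n) = nf n)

/-- the letters of a word in the small presentation -/
def rw14 (z : List ℕ) : List ℕ :=
  (z.map fun c => if c = 0 then 0 else if c = 1 then 2 else 1).reverse

namespace Tw

variable {G : Type*} [Group G] (T : Tw G)

/-- the image of a word -/
noncomputable def jw (w : List ℕ) : G := T.j (evw gen14 w)

theorem jw_append (u v : List ℕ) : T.jw (u ++ v) = T.jw v * T.jw u := by
  simp [jw, H77.HN.evw_append]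

theorem jw_nil : T.jw [] = 1 := by simp [jw]

theorem jw_invW (u : List ℕ) : T.jw (invW u) = (T.jw u)⁻¹ := by simp [jw, evw_invW]

theorem jw_eq {u v : List ℕ} (h : nf u = nf v) : T.jw u = T.jw v := by
  rw [jw, jw, evw_eq_iff.2 h]

theorem nf_eq {u v : List ℕ} (h : T.jw u = T.jw v) : nf u = nf v := evw_eq_iff.1 (T.inj h)

theorem jw_mw {m : ℕ} (hm : m < 2048) : T.jw (mw m) = T.j (vN m) := by rw [jw, evw_mw hm]

theorem combo (u : List ℕ) : T.t * T.jw (srcW u) = T.jw (dstW u) * T.t := by
  induction u with
  | nil => simp [srcW, dstW, jw_nil]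
  | cons k u ih =>
    have hk : T.t * T.jw (H94.J4.Data.prim.getD k ([], [])).1 =
        T.jw (H94.J4.Data.prim.getD k ([], [])).2 * T.t := by
      rcases Nat.lt_or_ge k H94.J4.Data.prim.length with h | h
      · rw [List.getD_eq_getElem _ _ h]; exact T.prim _ (List.getElem_mem h)
      · rw [List.getD_eq_default _ _ h]; simp [jw_nil]
    have e1 : srcW (k :: u) = (H94.J4.Data.prim.getD k ([], [])).1 ++ srcW u := by simp [srcW]
    have e2 : dstW (k :: u) = (H94.J4.Data.prim.getD k ([], [])).2 ++ dstW u := by simp [dstW]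
    rw [e1, e2, jw_append, jw_append, ← mul_assoc, ih, mul_assoc, hk, ← mul_assoc]

/-- the conjugate of t by a word -/
noncomputable def tau (c : List ℕ) : G := (T.jw c)⁻¹ * T.t * T.jw c

theorem tau_nil : T.tau [] = T.t := by simp [tau, jw_nil]

theorem tau_sq (c : List ℕ) : T.tau c * T.tau c = 1 := by
  simp only [tau]
  calc (T.jw c)⁻¹ * T.t * T.jw c * ((T.jw c)⁻¹ * T.t * T.jw c)
      = (T.jw c)⁻¹ * (T.t * T.t) * T.jw c := by group
    _ = 1 := by rw [T.sq]; group

theorem tau_inv (c : List ℕ) : (T.tau c)⁻¹ = T.tau c := inv_eq_of_mul_eq_one_right (T.tau_sq c)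

theorem tau_conj (g c : List ℕ) : (T.jw g)⁻¹ * T.tau c * T.jw g = T.tau (g ++ c) := by
  simp only [tau, jw_append, mul_inv_rev, mul_assoc]

theorem step {c u n : List ℕ} (h : stepOK c u n = true) :
    T.tau c * T.jw n * T.tau c = T.jw (stepW c u) := by
  simp only [stepOK, decide_eq_true_eq] at h
  have e := T.jw_eq h
  rw [jw_append, jw_append, jw_invW] at e
  simp only [stepW, jw_append, jw_invW, tau]
  calc (T.jw c)⁻¹ * T.t * T.jw c * T.jw n * ((T.jw c)⁻¹ * T.t * T.jw c)
      = (T.jw c)⁻¹ * (T.t * (T.jw c * (T.jw n * (T.jw c)⁻¹))) * T.t * T.jw c := by group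
    _ = (T.jw c)⁻¹ * (T.jw (dstW u) * T.t) * T.t * T.jw c := by rw [e, T.combo]
    _ = (T.jw c)⁻¹ * T.jw (dstW u) * (T.t * T.t) * T.jw c := by group
    _ = (T.jw c)⁻¹ * (T.jw (dstW u) * T.jw c) := by rw [T.sq]; group

/-- the product of a list of steps, the last step leftmost -/
noncomputable def tprod : List (List ℕ × List ℕ) → G
  | [] => 1
  | (c, _) :: L => tprod L * T.tau c

theorem steps {L : List (List ℕ × List ℕ)} :
    ∀ {n : List ℕ}, stepsOK L n = true → T.tprod L * T.jw n * (T.tprod L)⁻¹ = T.jw (stepsW L n) := by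
  induction L with
  | nil => intro n _; simp [tprod, stepsW]
  | cons a L ih =>
    intro n h
    obtain ⟨c, u⟩ := a
    simp only [stepsOK, Bool.and_eq_true] at h
    have e := T.step h.1
    have r := ih h.2
    simp only [tprod, stepsW, mul_inv_rev, T.tau_inv]
    rw [← r, ← e]
    simp only [mul_assoc]

theorem fix {L : List (List ℕ × List ℕ)} {n : List ℕ} (h : fixOK L n = true) :
    Commute (T.tprod L) (T.jw n) := by
  simp only [fixOK, Bool.and_eq_true, decide_eq_true_eq] at h
  have e := T.steps h.1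
  rw [T.jw_eq h.2] at e
  exact mul_inv_eq_iff_eq_mul.mp e

/-- a word commuting with a conjugate of t -/
theorem comm_step {c u n : List ℕ} (h : fixOK [(c, u)] n = true) :
    Commute (T.tau c) (T.jw n) := by
  have := T.fix h
  simpa [tprod] using this

/-- conjugates at equivalent words agree -/
theorem tau_eq {c d u : List ℕ} (h1 : nf (srcW u) = nf (dstW u))
    (h2 : nf c = nf (d ++ srcW u)) : T.tau c = T.tau d := by
  have hc := T.combo u
  rw [T.jw_eq h1.symm] at hc
  simp only [tau]
  rw [T.jw_eq h2, jw_append]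
  calc (T.jw (srcW u) * T.jw d)⁻¹ * T.t * (T.jw (srcW u) * T.jw d)
      = (T.jw d)⁻¹ * (T.jw (srcW u))⁻¹ * (T.t * T.jw (srcW u)) * T.jw d := by group
    _ = (T.jw d)⁻¹ * T.t * T.jw d := by rw [hc]; group

end Tw

end H92.J4Rel
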