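import Mathlib
import Cfsg.Agent.H84.J4N.Main
import Cfsg.Agent.H92.J4Rel.Chain

/-!
Small tools: commutation with permutations, masks and the words of the small presentation.
-/

set_option autoImplicit false
set_option maxRecDepth 100000

namespace H92.J4Rel

open H94.J4 (NN gen14 vec)
open H54.J4 (Pres gA gB)
open H84.J4N (pv lv)
open H77.HN (evw)

theorem imgs_getD (π : Equiv.Perm (Fin 24)) (i : Fin 24) : (imgs π).getD i 0 = (π i : ℕ) := by
  rw [imgs, List.getD_eq_getElem _ _ (by rw [List.length_ofFn]; exact i.2)]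
  exact List.getElem_ofFn _

theorem nf_perm (w : List ℕ) (i : Fin 24) :
    (nf w).2.getD i 0 = (perm24 (evw gen14 w).right i : ℕ) := by
  rw [← (inv_nf w).2.2, imgs_getD]

theorem perm_commute {n : NN} {w : List ℕ} (h : Commute n (evw gen14 w)) (i : Fin 24) :
    (nf w).2.getD (perm24 n.right i) 0 = (perm24 n.right ((perm24 (evw gen14 w).right) i) : ℕ) := by
  have e := congrArg (fun x : NN => perm24 x.right i) h.eq
  simp only [SemidirectProduct.mul_right, map_mul, Equiv.Perm.mul_apply] at e
  rw [nf_perm, e]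

theorem eq_vN_of_right {n : NN} (h : perm24 n.right = 1) : ∃ m < 2048, n = vN m := by
  obtain ⟨m, hm, e⟩ := exists_mask n.left
  refine ⟨m, hm, SemidirectProduct.ext (by simp [vN, e]) ?_⟩
  exact (perm24_inj (h.trans (map_one perm24).symm)).trans (by simp [vN])

theorem evw_rw14 (z : List ℕ) : evw gen14 (rw14 z) = SemidirectProduct.inr (pv z) := by
  induction z with
  | nil => simp [rw14]
  | cons c z ih =>
    have e : rw14 (c :: z) = rw14 z ++ [if c = 0 then 0 else if c = 1 then 2 else 1] := by
      simp [rw14]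
    rw [e, H77.HN.evw_append, ih, H77.HN.evw_singleton, H84.J4N.pv_cons, map_mul]
    congr 1
    have hb : gB⁻¹ = gB * gB :=
      inv_eq_of_mul_eq_one_right ((mul_assoc _ _ _).symm.trans H54.J4.gB_cube)
    rcases c with _ | _ | c
    · rfl
    · show gen14 2 = SemidirectProduct.inr gB⁻¹
      rw [hb]; rfl
    · rfl

/-- the column table of conjugation by a word -/
def colsOK (w cols : List ℕ) : Bool :=
  (List.range 11).all fun k =>
    decide (nf (invW w ++ mw (2 ^ k) ++ w) = (cols.getD k 0, List.range 24))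

theorem mask_fixed {w cols : List ℕ} (h : colsOK w cols = true) {m : ℕ} (hm : m < 2048)
    (hc : Commute (vN m) (evw gen14 w)) (hlt : H94.J4.app cols m < 2048) :
    H94.J4.app cols m = m := by
  have hb : ∀ k : Fin 11, evw gen14 w * SemidirectProduct.inl (H94.J4.bv k) * (evw gen14 w)⁻¹ =
      SemidirectProduct.inl (H94.J4.colHom cols (H94.J4.bv k)) := by
    intro k
    have e := List.all_eq_true.mp h k (List.mem_range.mpr k.2)
    simp only [decide_eq_true_eq] at e
    obtain ⟨a, -, c⟩ := inv_nf (invW w ++ mw (2 ^ (k : ℕ)) ++ w)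
    rw [e] at a c
    have hk : 2 ^ (k : ℕ) < 2048 := Nat.pow_lt_pow_right (a := 2) (n := 11) (by norm_num) k.2
    rw [H94.J4.colHom_bv, ← H94.J4.vec_two_pow]
    have hg : evw gen14 (invW w ++ mw (2 ^ (k : ℕ)) ++ w) =
        evw gen14 w * SemidirectProduct.inl (vec (2 ^ (k : ℕ))) * (evw gen14 w)⁻¹ := by
      rw [H77.HN.evw_append, H77.HN.evw_append, evw_invW, evw_mw hk, vN, ← mul_assoc]
    rw [← hg]
    refine SemidirectProduct.ext (by simpa using a) (perm24_inj (imgs_inj ?_))
    rw [c]
    simp [imgs_one]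
  have hall : evw gen14 w * vN m * (evw gen14 w)⁻¹ = vN (H94.J4.app cols m) := by
    have e : ((MulAut.conj (evw gen14 w)).toMonoidHom.comp SemidirectProduct.inl) =
        (SemidirectProduct.inl (φ := H94.J4.act)).comp (H94.J4.colHom cols) :=
      H94.J4.hom_ext fun k => hb k
    have := DFunLike.congr_fun e (vec m)
    simp only [MonoidHom.comp_apply, MulEquiv.coe_toMonoidHom, MulAut.conj_apply] at this
    rw [H94.J4.colHom_vec] at this
    exact this
  rw [← hc.eq, mul_inv_cancel_right] at hall
  exact (vec_inj hm hlt (SemidirectProduct.inl_injective hall)).symm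

namespace Tw

variable {G : Type*} [Group G] (T : Tw G)

theorem jw_rw14 (z : List ℕ) : T.jw (rw14 z) = T.j (SemidirectProduct.inr (pv z)) := by
  rw [jw, evw_rw14]

/-- the conjugate of t by an element of the small presentation -/
theorem tau_rw14 (z : List ℕ) : T.tau (rw14 z) =
    (T.j (SemidirectProduct.inr (pv z)))⁻¹ * T.t * T.j (SemidirectProduct.inr (pv z)) := by
  rw [tau, jw_rw14]

end Tw

end H92.J4Rel
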