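import Mathlib
import Cfsg.Agent.H92.J4Rel.Pin
import Cfsg.Agent.H92.J4Rel.DataA

/-!
Three conjugates of t with a common octad have product one.
-/

set_option autoImplicit false
set_option maxRecDepth 100000

namespace H92.J4Rel

open H94.J4 (NN gen14)
open H84.J4N (pv wLine)
open H77.HN (evw)

/-- the three conjugating words -/
def caW (i : ℕ) : List ℕ := DataA.cs.getD i []

/-- the steps of the product with given combinations -/
def stepsA (us : List (List ℕ)) : List (List ℕ × List ℕ) :=
  List.zip [caW 2, caW 1, caW 0] us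

theorem cs_eq : caW 0 = rw14 (wLine ++ [1, 1]) ∧ caW 1 = rw14 (wLine ++ [1]) ∧
    caW 2 = rw14 wLine := by decide +kernel

theorem sigma_ok : (DataA.sigma.all fun p => Nat.beq p.2.1.length 3 && fixOK (stepsA p.2.1) p.1) = true := by
  decide +kernel

theorem pair_ok : (Nat.beq DataA.pairFix.length 3 && fixOK (stepsA DataA.pairFix) (mw duadMask)) =
    true := by
  decide +kernel

theorem w_ok : ((List.range 3).all fun i =>
    fixOK [(caW i, DataA.wFix.getD i [])] (mw 208)) = true := by decide +kernel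

theorem sigma_tabs : (DataA.sigma.all fun p => decide ((nf p.1).2 = p.2.2.1) &&
    colsOK p.1 p.2.2.2) = true := by decide +kernel

theorem sigma_points : ((List.range 24).all fun i => (List.range 24).all fun k => Nat.beq k i ||
    DataA.sigma.any fun p => Nat.beq (p.2.2.1.getD i 0) i && !Nat.beq (p.2.2.1.getD k 0) k) =
      true := by decide +kernel

theorem sigma_vectors : ((List.range 2048).all fun m => Nat.beq m 0 || Nat.beq m 208 ||
    DataA.sigma.any fun p => Nat.blt (H94.J4.app p.2.2.2 m) 2048 &&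
      !Nat.beq (H94.J4.app p.2.2.2 m) m) = true := by
  decide +kernel

/-- the words of one line and their representatives -/
def lineOK (g : List ℕ) (reps : List (List ℕ × List ℕ)) (m : ℕ) : Bool :=
  decide (nf (g ++ mw 208 ++ invW g) = nf (mw m)) && (List.range 3).all fun i =>
    decide (nf (srcW (reps.getD i ([], [])).2) = nf (dstW (reps.getD i ([], [])).2)) &&
    decide (nf (g ++ caW i) = nf ((reps.getD i ([], [])).1 ++ srcW (reps.getD i ([], [])).2))

theorem lines_ok : (lineOK DataA.g0 DataA.rep0 DataA.wm0 && lineOK DataA.g1 DataA.rep1 DataA.wm1 &&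
    lineOK DataA.g2 DataA.rep2 DataA.wm2 && lineOK DataA.g3 DataA.rep3 DataA.wm3) = true := by
  decide +kernel

/-- representative of a point of a line -/
def pt (reps : List (List ℕ × List ℕ)) (i : ℕ) : List ℕ := (reps.getD i ([], [])).1

/-- the shared points and the incompatible products -/
theorem plane_ok : pt DataA.rep0 0 = pt DataA.rep3 0 ∧ pt DataA.rep0 1 = pt DataA.rep2 2 ∧
    pt DataA.rep0 2 = pt DataA.rep1 2 ∧ pt DataA.rep1 0 = pt DataA.rep2 0 ∧
    pt DataA.rep1 1 = pt DataA.rep3 1 ∧ pt DataA.rep2 1 = pt DataA.rep3 2 ∧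
    DataA.moveC = pt DataA.rep0 0 ∧
    stepOK DataA.moveC DataA.moveU (mw DataA.wm2) = true ∧
    nf (mw DataA.wm1 ++ mw DataA.wm0) ≠
      nf (mw DataA.wm3 ++ stepW DataA.moveC DataA.moveU) := by decide +kernel

/-- the six forms of a product of three involutions equal to a central involution -/
theorem six_forms {G : Type*} [Group G] {a b c w : G} (ha : a * a = 1) (hb : b * b = 1)
    (hc : c * c = 1) (hw : w * w = 1) (wa : w * a = a * w) (wb : w * b = b * w)
    (wc : w * c = c * w) (h : a * b * c = w) :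
    a * b = w * c ∧ c * a = w * b ∧ a * c = w * b := by
  have e1 : a * b = w * c := by
    rw [← h, mul_assoc (a * b), hc, mul_one]
  have hca : c * a = w * b := by
    have e2 : b * c = a * w := by
      rw [← h]; simp [← mul_assoc, ha]
    calc c * a = b * (b * c) * a := by rw [← mul_assoc b, hb, one_mul]
      _ = b * (a * w) * a := by rw [e2]
      _ = b * w * (a * a) := by rw [← wa]; simp only [← mul_assoc]
      _ = w * b := by rw [ha, mul_one, wb]
  refine ⟨e1, hca, ?_⟩
  have := congrArg (·⁻¹) hca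
  simp only [mul_inv_rev, inv_eq_of_mul_eq_one_right ha, inv_eq_of_mul_eq_one_right hb,
    inv_eq_of_mul_eq_one_right hc, inv_eq_of_mul_eq_one_right hw] at this
  rw [this, wb]

namespace Tw

variable {G : Type*} [Group G] (T : Tw G)

/-- the product -/
noncomputable def pA : G := T.tau (caW 0) * T.tau (caW 1) * T.tau (caW 2)

theorem tprod_stepsA {us : List (List ℕ)} (h : us.length = 3) : T.tprod (stepsA us) = T.pA := by
  match us, h with
  | [a, b, c], _ => simp [stepsA, tprod, pA]

theorem pA_commute {p : List ℕ × List (List ℕ) × List ℕ × List ℕ} (hp : p ∈ DataA.sigma) :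
    Commute T.pA (T.jw p.1) := by
  have h := List.all_eq_true.mp sigma_ok p hp
  simp only [Bool.and_eq_true, Nat.beq_eq] at h
  rw [← T.tprod_stepsA h.1]
  exact T.fix h.2

theorem pA_range : T.pA ∈ T.j.range := by
  have h := pair_ok
  simp only [Bool.and_eq_true, Nat.beq_eq] at h
  have hc := T.fix h.2
  rw [T.tprod_stepsA h.1, T.jw_mw (by norm_num [duadMask])] at hc
  exact T.fus _ ⟨duadMask, by rw [hc.eq, mul_inv_cancel_right]⟩

theorem pA_cases : T.pA = 1 ∨ T.pA = T.jw (mw 208) := by
  obtain ⟨n, hn⟩ := T.pA_range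
  have hcom : ∀ p ∈ DataA.sigma, Commute n (evw gen14 p.1) := fun p hp =>
    T.inj (by rw [map_mul, map_mul, hn]; exact T.pA_commute hp)
  have hperm : perm24 n.right = 1 := by
    refine Equiv.ext fun i => ?_
    by_contra hne
    have hk := List.all_eq_true.mp (List.all_eq_true.mp sigma_points i (List.mem_range.mpr i.2))
      (perm24 n.right i) (List.mem_range.mpr (perm24 n.right i).2)
    simp only [Bool.or_eq_true, Nat.beq_eq, List.any_eq_true, Bool.and_eq_true,
      Bool.not_eq_true'] at hk
    rcases hk with hk | ⟨p, hp, h1, h2⟩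
    · exact hne (Fin.ext hk)
    · have e := perm_commute (hcom p hp) i
      have ht := List.all_eq_true.mp sigma_tabs p hp
      simp only [Bool.and_eq_true, decide_eq_true_eq] at ht
      rw [ht.1] at e
      rw [← ht.1, nf_perm] at h1
      rw [Fin.ext h1] at e
      rw [← Bool.not_eq_true, Nat.beq_eq] at h2
      exact h2 e
  obtain ⟨m, hm, rfl⟩ := eq_vN_of_right hperm
  have h := List.all_eq_true.mp sigma_vectors m (List.mem_range.mpr hm)
  simp only [Bool.or_eq_true, Nat.beq_eq, List.any_eq_true, Bool.and_eq_true, Bool.not_eq_true',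
    Nat.blt, Nat.ble_eq] at h
  rcases h with (rfl | rfl) | ⟨p, hp, hlt, hne⟩
  · left
    rw [← hn]
    simp [vN, H94.J4.vec_zero]
  · right
    rw [← hn, T.jw_mw hm]
  · exfalso
    have ht := List.all_eq_true.mp sigma_tabs p hp
    simp only [Bool.and_eq_true, decide_eq_true_eq] at ht
    rw [← Bool.not_eq_true, Nat.beq_eq] at hne
    exact hne (mask_fixed ht.2 hm (hcom p hp) hlt)

theorem w_commute (i : ℕ) (hi : i < 3) : Commute (T.tau (caW i)) (T.jw (mw 208)) := by
  have h := List.all_eq_true.mp w_ok i (List.mem_range.mpr hi)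
  exact T.comm_step h

theorem w_sq : T.jw (mw 208) * T.jw (mw 208) = 1 := by
  rw [← jw_append]
  exact (T.jw_eq (v := []) (by decide +kernel)).trans T.jw_nil

theorem line_forms (hP : T.pA = T.jw (mw 208)) {g : List ℕ} {reps : List (List ℕ × List ℕ)}
    {m : ℕ} (h : lineOK g reps m = true) :
    let a := T.tau (pt reps 0)
    let b := T.tau (pt reps 1)
    let c := T.tau (pt reps 2)
    let w := T.jw (mw m)
    a * b = w * c ∧ c * a = w * b ∧ a * c = w * b := by
  intro a b c w
  simp only [lineOK, Bool.and_eq_true, decide_eq_true_eq, List.all_eq_true, List.mem_range] at h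
  have eq : ∀ i < 3, (T.jw g)⁻¹ * T.tau (caW i) * T.jw g = T.tau (pt reps i) := fun i hi => by
    rw [T.tau_conj]
    exact T.tau_eq (h.2 i hi).1 (h.2 i hi).2
  have ew : (T.jw g)⁻¹ * T.jw (mw 208) * T.jw g = w := by
    have e := T.jw_eq h.1
    rw [jw_append, jw_append, jw_invW, ← mul_assoc] at e
    exact e
  let f := MulAut.conj (T.jw g)⁻¹
  have ef : ∀ x, f x = (T.jw g)⁻¹ * x * T.jw g := fun x => by simp [f]
  have ea := (ef _).trans (eq 0 (by norm_num))
  have eb := (ef _).trans (eq 1 (by norm_num))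
  have ec := (ef _).trans (eq 2 (by norm_num))
  have eww := (ef _).trans ew
  have hc : ∀ i < 3, w * f (T.tau (caW i)) = f (T.tau (caW i)) * w := fun i hi => by
    rw [← eww, ← map_mul, ← map_mul, (T.w_commute i hi).eq]
  refine six_forms (T.tau_sq _) (T.tau_sq _) (T.tau_sq _) ?_ ?_ ?_ ?_ ?_
  · rw [← eww, ← map_mul, T.w_sq, map_one]
  · have := hc 0 (by norm_num); rwa [ea] at this
  · have := hc 1 (by norm_num); rwa [eb] at this
  · have := hc 2 (by norm_num); rwa [ec] at this
  · show T.tau (pt reps 0) * T.tau (pt reps 1) * T.tau (pt reps 2) = w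
    rw [← ea, ← eb, ← ec, ← eww, ← map_mul, ← map_mul]
    exact congrArg f hP

theorem pA_ne : T.pA ≠ T.jw (mw 208) := by
  intro hP
  have h := lines_ok
  simp only [Bool.and_eq_true] at h
  obtain ⟨⟨⟨h0, h1⟩, h2⟩, h3⟩ := h
  obtain ⟨ab, -, -⟩ := T.line_forms hP h0
  obtain ⟨-, cd, -⟩ := T.line_forms hP h1
  obtain ⟨-, bd, -⟩ := T.line_forms hP h2
  obtain ⟨-, -, ae⟩ := T.line_forms hP h3
  obtain ⟨e1, e2, e3, e4, e5, e6, e7, hmv, hne⟩ := plane_ok
  rw [← e3] at cd
  rw [← e4, ← e2] at bd
  rw [← e1, ← e5, ← e6] at ae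
  have mv := T.step hmv
  rw [e7] at mv
  refine hne (T.nf_eq ?_)
  rw [jw_append, jw_append]
  refine mul_right_cancel (b := T.tau (pt DataA.rep1 1)) ?_
  calc T.jw (mw DataA.wm0) * T.jw (mw DataA.wm1) * T.tau (pt DataA.rep1 1)
      = T.jw (mw DataA.wm0) * (T.tau (pt DataA.rep0 2) * T.tau (pt DataA.rep1 0)) := by
        rw [mul_assoc, cd]
    _ = T.tau (pt DataA.rep0 0) * (T.tau (pt DataA.rep0 1) * T.tau (pt DataA.rep1 0)) := by
        rw [← mul_assoc, ← ab, mul_assoc]
    _ = T.tau (pt DataA.rep0 0) * (T.jw (mw DataA.wm2) * T.tau (pt DataA.rep2 1)) := by rw [bd]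
    _ = T.tau (pt DataA.rep0 0) * T.jw (mw DataA.wm2) * T.tau (pt DataA.rep0 0) *
          (T.tau (pt DataA.rep0 0) * T.tau (pt DataA.rep2 1)) := by
        rw [← mul_assoc, ← mul_assoc, mul_assoc (T.tau _ * T.jw _), T.tau_sq, mul_one]
    _ = T.jw (stepW DataA.moveC DataA.moveU) * T.jw (mw DataA.wm3) * T.tau (pt DataA.rep1 1) := by
        rw [mv, e7, ae, ← mul_assoc]

/-- three conjugates of t with a common octad have product one -/
theorem pA_one : T.pA = 1 := T.pA_cases.resolve_right T.pA_ne

/-- the first relator -/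
theorem relA : (T.j (SemidirectProduct.inr (pv [1])) *
    ((T.j (SemidirectProduct.inr (pv wLine)))⁻¹ * T.t * T.j (SemidirectProduct.inr (pv wLine)))) ^ 3
      = 1 := by
  have hY : T.j (SemidirectProduct.inr (pv [1])) * T.j (SemidirectProduct.inr (pv [1])) *
      T.j (SemidirectProduct.inr (pv [1])) = 1 := by
    rw [← T.jw_rw14, ← jw_append, ← jw_append]
    exact (T.jw_eq (v := []) (by decide +kernel)).trans T.jw_nil
  obtain ⟨e0, e1, e2⟩ := cs_eq
  rw [H84.J4N.cube_conj hY, ← T.pA_one, pA, e0, e1, e2, T.tau_rw14, T.tau_rw14, T.tau_rw14]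
  simp only [H84.J4N.pv_append, map_mul, show pv [1, 1] = pv [1] * pv [1] from
    H84.J4N.pv_append [1] [1]]
  group

end Tw

end H92.J4Rel
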