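import Mathlib
import Cfsg.Agent.H92.J4Rel.RelA
import Cfsg.Agent.H92.J4Rel.DataB

/-!
The product of four conjugates of t lies in the copy of the model: sixteen possible values.
-/

set_option autoImplicit false
set_option maxRecDepth 100000

namespace H92.J4Rel

open H94.J4 (NN gen14)
open H84.J4N (pv wU wPi)
open H77.HN (evw)

/-- the steps of the product with given combinations -/
def stepsB (us : List (List ℕ)) : List (List ℕ × List ℕ) := List.zip DataB.cs us

theorem csB_eq : DataB.cs = [rw14 wU, [], rw14 (wU ++ wPi), []] := by decide +kernel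

theorem sigmaB_ok : (DataB.sigma.all fun p => Nat.beq p.2.1.length 4 && fixOK (stepsB p.2.1) p.1) =
    true := by decide +kernel

theorem sigmaB_tabs : (DataB.sigma.all fun p => decide ((nf p.1).2 = p.2.2.1) &&
    colsOK p.1 p.2.2.2) = true := by decide +kernel

theorem vecFix_ok : (Nat.beq (DataB.vecFix.getD 0 []).length 4 &&
    fixOK (stepsB (DataB.vecFix.getD 0 [])) (mw lineA) &&
    (Nat.beq (DataB.vecFix.getD 1 []).length 4 &&
    fixOK (stepsB (DataB.vecFix.getD 1 [])) (mw lineB)) &&
    (Nat.beq (DataB.vecFix.getD 2 []).length 4 &&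
    fixOK (stepsB (DataB.vecFix.getD 2 [])) (mw 434))) = true := by decide +kernel

theorem pairG_ok : nf (DataB.pairG ++ mw duadMask ++ invW DataB.pairG) =
    nf (mw (434 ^^^ lineC)) := by decide +kernel

/-- the possible images of the three representatives -/
def repOpts : ℕ → List ℕ
  | 0 => [0, 21]
  | 1 => [1, 19, 7, 23]
  | _ => [8, 3, 13, 15]

theorem repOpts_ok : ([0, 1, 3].all fun r => (List.range 24).all fun k =>
    (repOpts r).contains k ||
    DataB.sigma.any fun p => Nat.beq (p.2.2.1.getD r 0) r && !Nat.beq (p.2.2.1.getD k 0) k) =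
      true := by decide +kernel

/-- one step in completing the images -/
def fillStep (acc : List ℕ) (e : ℕ × ℕ × ℕ) : List ℕ :=
  if acc.getD e.2.2 24 = 24 then acc
  else acc.set e.1 ((DataB.sigma.getD e.2.1 ([], [], [], [])).2.2.1.getD (acc.getD e.2.2 24) 0)

/-- the images determined by those of the representatives -/
def fill (a b c : ℕ) : List ℕ :=
  DataB.tree.foldl fillStep ((((List.replicate 24 24).set 0 a).set 1 b).set 3 c)

theorem tree_ok : (DataB.tree.all fun e => Nat.blt e.1 24 && Nat.blt e.2.1 DataB.sigma.length &&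
    Nat.blt e.2.2 24 &&
    Nat.beq ((DataB.sigma.getD e.2.1 ([], [], [], [])).2.2.1.getD e.2.2 0) e.1) = true := by
  decide +kernel

/-- packed images -/
def packImgs (l : List ℕ) : ℕ := l.foldr (fun v n => v + 32 * n) 0

theorem fill_ok : ((repOpts 0).all fun a => (repOpts 1).all fun b => (repOpts 3).all fun c =>
    ((List.range 24).all fun i => Nat.blt ((fill a b c).getD i 24) 24 &&
      Nat.beq (H90.img (packImgs (fill a b c)) i) ((fill a b c).getD i 24)) &&
    (!H90.preservesCode (packImgs (fill a b c)) ||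
      DataB.cand.any fun w => (List.range 24).all fun i =>
        Nat.beq ((nf w).2.getD i 0) ((fill a b c).getD i 24))) = true := by decide +kernel

theorem cand_comm : (DataB.cand.all fun w => DataB.sigma.all fun p =>
    decide (nf (w ++ p.1) = nf (p.1 ++ w))) = true := by decide +kernel

theorem survB_ok : ((List.range 2048).all fun m => DataB.surv.contains m ||
    DataB.sigma.any fun p => Nat.blt (H94.J4.app p.2.2.2 m) 2048 &&
      !Nat.beq (H94.J4.app p.2.2.2 m) m) = true := by decide +kernel

namespace Tw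

variable {G : Type*} [Group G] (T : Tw G)

/-- the product -/
noncomputable def xB : G :=
  T.tau [] * T.tau (rw14 (wU ++ wPi)) * T.tau [] * T.tau (rw14 wU)

theorem tprod_stepsB {us : List (List ℕ)} (h : us.length = 4) : T.tprod (stepsB us) = T.xB := by
  match us, h with
  | [a, b, c, d], _ => simp [stepsB, csB_eq, tprod, xB]

theorem xB_fix {us : List (List ℕ)} {w : List ℕ}
    (h : (Nat.beq us.length 4 && fixOK (stepsB us) w) = true) : Commute T.xB (T.jw w) := by
  simp only [Bool.and_eq_true, Nat.beq_eq] at h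
  rw [← T.tprod_stepsB h.1]
  exact T.fix h.2

theorem xB_range : T.xB ∈ T.j.range := by
  have h := vecFix_ok
  simp only [Bool.and_eq_true] at h
  obtain ⟨⟨⟨h1, h1'⟩, h2, h2'⟩, h3, h3'⟩ := h
  have ca := T.xB_fix (us := DataB.vecFix.getD 0 []) (w := mw lineA)
    (by rw [Bool.and_eq_true]; exact ⟨h1, h1'⟩)
  have cb := T.xB_fix (us := DataB.vecFix.getD 1 []) (w := mw lineB)
    (by rw [Bool.and_eq_true]; exact ⟨h2, h2'⟩)
  have cw := T.xB_fix (us := DataB.vecFix.getD 2 []) (w := mw 434)
    (by rw [Bool.and_eq_true]; exact ⟨h3, h3'⟩)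
  rw [T.jw_mw (by norm_num [lineA])] at ca
  rw [T.jw_mw (by norm_num [lineB])] at cb
  rw [T.jw_mw (by norm_num)] at cw
  obtain ⟨m, -, hm⟩ := T.line _ ca cb
  set g := T.jw DataB.pairG
  have ed : g⁻¹ * T.j (vN duadMask) * g = T.j (vN 434) * T.j (vN lineC) := by
    have e := T.jw_eq pairG_ok
    rw [jw_append, jw_append, jw_invW, T.jw_mw (by norm_num [duadMask]),
      T.jw_mw (by decide), ← mul_assoc] at e
    rw [e, ← map_mul]
    congr 1
    simp [vN, ← map_mul, ← H94.J4.vec_xor]
  have hx : T.xB * (g⁻¹ * T.j (vN duadMask) * g) * T.xB⁻¹ = T.j (vN (434 ^^^ m)) := by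
    rw [ed, show T.xB * (T.j (vN 434) * T.j (vN lineC)) * T.xB⁻¹ =
      (T.xB * T.j (vN 434) * T.xB⁻¹) * (T.xB * T.j (vN lineC) * T.xB⁻¹) by group, hm, cw.eq,
      mul_inv_cancel_right, ← map_mul]
    congr 1
    simp [vN, ← map_mul, ← H94.J4.vec_xor]
  have hr : T.xB * g⁻¹ ∈ T.j.range :=
    T.fus _ ⟨434 ^^^ m, by rw [← hx]; group⟩
  have hg : g ∈ T.j.range := ⟨_, rfl⟩
  simpa using mul_mem hr hg

/-- the possible values -/
theorem xB_cases : ∃ k < 4, ∃ m ∈ DataB.surv, T.xB = T.jw (DataB.cand.getD k [] ++ mw m) := by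
  obtain ⟨n, hn⟩ := T.xB_range
  have hcom : ∀ p ∈ DataB.sigma, Commute n (evw gen14 p.1) := fun p hp =>
    T.inj (by rw [map_mul, map_mul, hn]; exact T.xB_fix (List.all_eq_true.mp sigmaB_ok p hp))
  set π := perm24 n.right with hπ
  have hlit : ∀ p ∈ DataB.sigma, ∀ i : Fin 24,
      p.2.2.1.getD i 0 = (perm24 (evw gen14 p.1).right i : ℕ) := fun p hp i => by
    have ht := List.all_eq_true.mp sigmaB_tabs p hp
    simp only [Bool.and_eq_true, decide_eq_true_eq] at ht
    rw [← ht.1, nf_perm]
  have hmove : ∀ p ∈ DataB.sigma, ∀ i : Fin 24,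
      p.2.2.1.getD (π i) 0 = (π (perm24 (evw gen14 p.1).right i) : ℕ) := fun p hp i => by
    have ht := List.all_eq_true.mp sigmaB_tabs p hp
    simp only [Bool.and_eq_true, decide_eq_true_eq] at ht
    rw [← ht.1]
    exact perm_commute (hcom p hp) i
  have hrep : ∀ r : Fin 24, (r : ℕ) ∈ [0, 1, 3] → (π r : ℕ) ∈ repOpts r := fun r hr => by
    have h := List.all_eq_true.mp (List.all_eq_true.mp repOpts_ok _ hr) (π r)
      (List.mem_range.mpr (π r).2)
    simp only [Bool.or_eq_true, List.contains_iff_mem, List.any_eq_true, Bool.and_eq_true,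
      Bool.not_eq_true', Nat.beq_eq] at h
    rcases h with h | ⟨p, hp, h1, h2⟩
    · exact h
    · exfalso
      rw [hlit p hp] at h1
      have e := hmove p hp r
      rw [Fin.ext h1] at e
      rw [← Bool.not_eq_true, Nat.beq_eq] at h2
      exact h2 e
  have hf : ∀ i : Fin 24, (fill (π 0) (π 1) (π 3)).getD i 24 = 24 ∨
      (fill (π 0) (π 1) (π 3)).getD i 24 = (π i : ℕ) := by
    have key : ∀ (l : List (ℕ × ℕ × ℕ)), (∀ e ∈ l, e ∈ DataB.tree) → ∀ acc : List ℕ,
        (∀ i : Fin 24, acc.getD i 24 = 24 ∨ acc.getD i 24 = (π i : ℕ)) →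
        ∀ i : Fin 24, (l.foldl fillStep acc).getD i 24 = 24 ∨
          (l.foldl fillStep acc).getD i 24 = (π i : ℕ) := by
      intro l
      induction l with
      | nil => intro _ acc h; exact h
      | cons e l ih =>
        intro hl acc h
        refine ih (fun x hx => hl x (List.mem_cons_of_mem _ hx)) _ fun i => ?_
        have ht := List.all_eq_true.mp tree_ok e (hl e List.mem_cons_self)
        simp only [Bool.and_eq_true, Nat.blt, Nat.ble_eq, Nat.beq_eq] at ht
        obtain ⟨⟨⟨h1, h2⟩, h3⟩, h4⟩ := ht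
        unfold fillStep
        split
        · exact h i
        · next hne =>
          rcases eq_or_ne e.1 (i : ℕ) with hi | hi
          · by_cases hlen : e.1 < acc.length
            · right
              rw [hi] at hlen ⊢
              rw [List.getD_eq_getElem _ _ (by simpa using hlen), List.getElem_set_self]
              rw [List.getD_eq_getElem _ _ h2] at h4 ⊢
              have hp : DataB.sigma[e.2.1] ∈ DataB.sigma := List.getElem_mem h2
              have hj := (h ⟨e.2.2, h3⟩).resolve_left hne
              rw [show ((⟨e.2.2, h3⟩ : Fin 24) : ℕ) = e.2.2 from rfl] at hj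
              rw [hj, hmove _ hp ⟨e.2.2, h3⟩]
              congr 2
              refine Fin.ext ?_
              rw [← hlit _ hp ⟨e.2.2, h3⟩, ← hi]
              exact h4
            · left
              rw [List.getD_eq_default _ _ (by simp; omega)]
          · rw [List.getD_eq_getElem?_getD, List.getElem?_set_ne hi, ← List.getD_eq_getElem?_getD]
            exact h i
    refine key _ (fun e he => he) _ fun i => ?_
    fin_cases i <;> simp
  have h0 := hrep 0 (by simp)
  have h1 := hrep 1 (by simp)
  have h3 := hrep 3 (by simp)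
  have hk := List.all_eq_true.mp (List.all_eq_true.mp (List.all_eq_true.mp fill_ok _ h0) _ h1) _ h3
  simp only [Bool.and_eq_true, Bool.or_eq_true, List.all_eq_true, List.mem_range, Nat.blt,
    Nat.ble_eq, Nat.beq_eq, Bool.not_eq_true', List.any_eq_true] at hk
  obtain ⟨hall, hor⟩ := hk
  have himg : ∀ i : Fin 24, (fill (π 0) (π 1) (π 3)).getD i 24 = (π i : ℕ) := fun i =>
    (hf i).resolve_left fun e => by have := (hall i i.2).1; omega
  rcases hor with hno | ⟨w, hw, hwi⟩
  · exfalso
    have hr := H54.J4.repr_toPts (σ := π) (n := packImgs (fill (π 0) (π 1) (π 3))) fun i => by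
      rw [(hall i i.2).2, himg]
    have := (H90.mem_M24_iff_preservesCode hr).mp (by rw [hπ, toPts_perm24]; exact SetLike.coe_mem _)
    rw [hno] at this
    exact Bool.false_ne_true this
  · have hperm : perm24 (n * (evw gen14 w)⁻¹).right = 1 := by
      rw [SemidirectProduct.mul_right, SemidirectProduct.inv_right, map_mul, map_inv,
        mul_inv_eq_one]
      refine Equiv.ext fun i => Fin.ext ?_
      rw [← nf_perm, ← himg i]
      exact (hwi i i.2).symm
    obtain ⟨m, hm, he⟩ := eq_vN_of_right hperm
    have hn' : n = evw gen14 (w ++ mw m) := by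
      rw [H77.HN.evw_append, evw_mw hm, ← he, inv_mul_cancel_right]
    obtain ⟨k, hk4, rfl⟩ := List.getElem_of_mem hw
    refine ⟨k, hk4, m, ?_, by rw [← hn, hn', List.getD_eq_getElem _ _ hk4]; rfl⟩
    have h := List.all_eq_true.mp survB_ok m (List.mem_range.mpr hm)
    simp only [Bool.or_eq_true, List.contains_iff_mem, List.any_eq_true, Bool.and_eq_true,
      Bool.not_eq_true', Nat.blt, Nat.ble_eq] at h
    rcases h with h | ⟨p, hp, hlt, hne⟩
    · exact h
    · exfalso
      have ht := List.all_eq_true.mp sigmaB_tabs p hp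
      simp only [Bool.and_eq_true, decide_eq_true_eq] at ht
      rw [← Bool.not_eq_true, Nat.beq_eq] at hne
      refine hne (mask_fixed ht.2 hm ?_ hlt)
      rw [← he]
      have hc := List.all_eq_true.mp (List.all_eq_true.mp cand_comm _ hw) p hp
      simp only [decide_eq_true_eq] at hc
      have hwc : Commute (evw gen14 DataB.cand[k]) (evw gen14 p.1) := by
        have := evw_eq_iff.2 hc
        rw [H77.HN.evw_append, H77.HN.evw_append] at this
        exact this.symm
      exact (hcom p hp).mul_left hwc.inv_left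

end Tw

end H92.J4Rel
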