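import Mathlib
import Cfsg.Agent.H92.J4Rel.PinB

/-!
The second relator, and the two relators as a setup.
-/

set_option autoImplicit false
set_option maxRecDepth 100000

namespace H92.J4Rel

open H94.J4 (NN gen14)
open H84.J4N (pv wU wPi)
open H77.HN (evw)

/-- conjugates along a line agree with the representatives -/
def lineEqOK (g : List ℕ) (reps : List (List ℕ × List ℕ)) : Bool :=
  (List.range 3).all fun i =>
    decide (nf (srcW (reps.getD i ([], [])).2) = nf (dstW (reps.getD i ([], [])).2)) &&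
    decide (nf (g ++ caW i) = nf ((reps.getD i ([], [])).1 ++ srcW (reps.getD i ([], [])).2))

/-- equal conjugates at two words -/
def eqOK (c d u : List ℕ) : Bool :=
  decide (nf (srcW u) = nf (dstW u)) && decide (nf c = nf (d ++ srcW u))

theorem linesB_ok : (lineEqOK DataB.gL0 DataB.rL0 && lineEqOK DataB.gL1 DataB.rL1 &&
    lineEqOK DataB.gL2 DataB.rL2) = true := by decide +kernel

/-- the word of the element of order four -/
def wP : List ℕ := rw14 wPi
/-- the word of the first moving trio -/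
def wT : List ℕ := rw14 wU
/-- the word of the second moving trio -/
def wT2 : List ℕ := rw14 (wU ++ wPi)

theorem eqs_ok : (eqOK (invW wP) [] DataB.piT && eqOK (invW wP ++ wT) wT2 DataB.piU &&
    eqOK (invW wP ++ wT2) wT DataB.piU2 &&
    eqOK DataB.sym wT (DataB.symU.getD 0 []) && eqOK (DataB.sym ++ wT) [] (DataB.symU.getD 1 []) &&
    eqOK (DataB.sym ++ DataB.mM) DataB.mM (DataB.symU.getD 2 []) &&
    DataB.moves.all (fun p => eqOK p.1 [] p.2.1 && eqOK (p.1 ++ DataB.mM) DataB.mM p.2.2)) = true := by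
  decide +kernel

theorem labels_ok : pt DataB.rL1 0 = wT ∧ pt DataB.rL1 1 = DataB.mM ∧ pt DataB.rL1 2 = wT2 ∧
    pt DataB.rL0 0 = DataB.mM ∧ pt DataB.rL0 2 = [] ∧
    pt DataB.rL2 2 = wT ∧ DataB.moves.length = 2 ∧
    pt DataB.rL2 0 = (DataB.moves.getD 0 ([], [], [])).1 ++ wT ∧
    pt DataB.rL2 1 = (DataB.moves.getD 1 ([], [], [])).1 ++ wT := by decide +kernel

/-- the masks to exclude -/
def badMask (i : ℕ) : ℕ := DataB.surv.getD (i + 1) 0

theorem kill_ok : ((List.range 4).all fun k => (List.range 3).all fun i =>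
    let x := DataB.cand.getD k [] ++ mw (badMask i)
    let u := (DataB.kill.getD (3 * k + i) (0, [])).2
    if (DataB.kill.getD (3 * k + i) (0, [])).1 = 0 then
      stepOK [] u x && !decide (nf (stepW [] u) = nf (invW wP ++ invW x ++ wP))
    else stepOK wT u x && !decide (nf (stepW wT u) = nf (invW x))) = true := by decide +kernel

theorem surv_eq : DataB.surv = [0, badMask 0, badMask 1, badMask 2] := by decide +kernel

theorem cand_facts : ((List.range 4).all fun k =>
    fixOK [(DataB.mM, DataB.candM.getD k [])] (DataB.cand.getD k [])) = true ∧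
    (decide (nf (DataB.sym ++ DataB.cand.getD 2 [] ++ invW DataB.sym) =
        nf (invW (DataB.cand.getD 2 []))) ||
      decide (nf (DataB.sym ++ DataB.cand.getD 3 [] ++ invW DataB.sym) =
        nf (invW (DataB.cand.getD 3 [])))) = false ∧
    nf (DataB.cand.getD 1 []) = nf [] ∧
    nf (DataB.cand.getD 0 []) = nf (wP ++ wP) ∧
    nf (DataB.cand.getD 0 [] ++ DataB.cand.getD 0 []) = nf [] := by decide +kernel

namespace Tw

variable {G : Type*} [Group G] (T : Tw G)

theorem eqOK_tau {c d u : List ℕ} (h : eqOK c d u = true) : T.tau c = T.tau d := by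
  simp only [eqOK, Bool.and_eq_true, decide_eq_true_eq] at h
  exact T.tau_eq h.1 h.2

theorem line_one {g : List ℕ} {reps : List (List ℕ × List ℕ)} (h : lineEqOK g reps = true) :
    let a := T.tau (pt reps 0)
    let b := T.tau (pt reps 1)
    let c := T.tau (pt reps 2)
    a * b = c ∧ c * a = b ∧ a * c = b := by
  intro a b c
  simp only [lineEqOK, Bool.and_eq_true, decide_eq_true_eq, List.all_eq_true, List.mem_range] at h
  have eq : ∀ i < 3, (T.jw g)⁻¹ * T.tau (caW i) * T.jw g = T.tau (pt reps i) := fun i hi => by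
    rw [T.tau_conj]
    exact T.tau_eq (h i hi).1 (h i hi).2
  have hp : a * b * c = 1 := by
    show T.tau (pt reps 0) * T.tau (pt reps 1) * T.tau (pt reps 2) = 1
    rw [← eq 0 (by norm_num), ← eq 1 (by norm_num), ← eq 2 (by norm_num)]
    calc _ = (T.jw g)⁻¹ * T.pA * T.jw g := by rw [pA]; group
      _ = 1 := by rw [T.pA_one]; group
  have := six_forms (T.tau_sq (pt reps 0)) (T.tau_sq (pt reps 1)) (T.tau_sq (pt reps 2))
    (one_mul 1) (by simp) (by simp) (by simp) hp
  simpa only [one_mul] using this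

/-- x moved into y -/
theorem xB_inv : (T.xB)⁻¹ = T.tau wT * T.tau [] * T.tau wT2 * T.tau [] := by
  simp only [xB, mul_inv_rev, T.tau_inv, wT, wT2, mul_assoc]

theorem xB_id0 : T.tau [] * T.xB * T.tau [] = T.jw wP * (T.xB)⁻¹ * (T.jw wP)⁻¹ := by
  have h := eqs_ok
  simp only [Bool.and_eq_true] at h
  obtain ⟨⟨⟨⟨⟨⟨h0, h1⟩, h2⟩, -⟩, -⟩, -⟩, -⟩ := h
  have e : ∀ c, T.jw wP * T.tau c * (T.jw wP)⁻¹ = T.tau (invW wP ++ c) := fun c => by
    rw [← T.tau_conj, T.jw_invW, inv_inv]
  have e0 : T.jw wP * T.tau [] * (T.jw wP)⁻¹ = T.tau [] :=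
    (e []).trans (by rw [List.append_nil]; exact T.eqOK_tau h0)
  have e1 := (e wT).trans (T.eqOK_tau h1)
  have e2 := (e wT2).trans (T.eqOK_tau h2)
  have f : ∀ x, MulAut.conj (T.jw wP) x = T.jw wP * x * (T.jw wP)⁻¹ := fun x => rfl
  rw [← f] at e0 e1 e2
  rw [← f, T.xB_inv, map_mul, map_mul, map_mul, e0, e1, e2, xB]
  show T.tau [] * (T.tau [] * T.tau wT2 * T.tau [] * T.tau wT) * T.tau [] = _
  simp only [← mul_assoc, T.tau_sq, one_mul]

theorem xB_id1 : T.tau wT * T.xB * T.tau wT = (T.xB)⁻¹ := by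
  rw [T.xB_inv, xB]
  show T.tau wT * (T.tau [] * T.tau wT2 * T.tau [] * T.tau wT) * T.tau wT = _
  simp only [mul_assoc, T.tau_sq, mul_one]

/-- the value has no vector part -/
theorem xB_perm : ∃ k < 4, T.xB = T.jw (DataB.cand.getD k []) := by
  obtain ⟨k, hk, m, hm, hx⟩ := T.xB_cases
  refine ⟨k, hk, ?_⟩
  rcases eq_or_ne m 0 with rfl | hm0
  · rw [hx, T.jw_append, show mw 0 = [] by decide +kernel, T.jw_nil, one_mul]
  · exfalso
    obtain ⟨i, hi, rfl⟩ : ∃ i < 3, m = badMask i := by
      rw [surv_eq] at hm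
      simp only [List.mem_cons, List.not_mem_nil, or_false] at hm
      rcases hm with h | h | h | h
      · exact absurd h hm0
      · exact ⟨0, by norm_num, h⟩
      · exact ⟨1, by norm_num, h⟩
      · exact ⟨2, by norm_num, h⟩
    have h := List.all_eq_true.mp (List.all_eq_true.mp kill_ok k (List.mem_range.mpr hk)) i
      (List.mem_range.mpr hi)
    dsimp only at h
    split at h <;> simp only [Bool.and_eq_true, Bool.not_eq_true', decide_eq_false_iff_not] at h
    · refine h.2 (T.nf_eq ?_)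
      have e := T.step h.1
      rw [← hx, T.xB_id0] at e
      rw [← e, T.jw_append, T.jw_append, T.jw_invW, T.jw_invW, hx, ← mul_assoc]
    · refine h.2 (T.nf_eq ?_)
      have e := T.step h.1
      rw [← hx, T.xB_id1] at e
      rw [← e, T.jw_invW, hx]

/-- the second moving conjugate through the common neighbour -/
theorem wT2_eq : T.tau wT * T.tau DataB.mM = T.tau wT2 ∧
    Commute (T.tau []) (T.tau DataB.mM) ∧ Commute (T.tau wT) (T.tau DataB.mM) := by
  have h := linesB_ok
  simp only [Bool.and_eq_true] at h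
  obtain ⟨e1, e2, e3, e4, e5, -⟩ := labels_ok
  obtain ⟨ab, ca, ac⟩ := T.line_one h.1.2
  rw [e1, e2, e3] at *
  obtain ⟨-, ca0, ac0⟩ := T.line_one h.1.1
  rw [e4, e5] at ca0 ac0
  refine ⟨ab, ca0.trans ac0.symm, ?_⟩
  show T.tau wT * T.tau DataB.mM = T.tau DataB.mM * T.tau wT
  have e := congrArg (·⁻¹) ab
  simp only [mul_inv_rev, T.tau_inv] at e
  rw [ab, e]

theorem xB_square : T.xB = (T.tau [] * T.tau wT) ^ 2 * T.tau DataB.mM := by
  obtain ⟨h, c0, c1⟩ := T.wT2_eq
  show T.tau [] * T.tau wT2 * T.tau [] * T.tau wT = _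
  rw [← h, pow_two]
  simp only [mul_assoc]
  rw [← mul_assoc (T.tau DataB.mM) (T.tau []), ← c0.eq, mul_assoc, ← c1.eq]

theorem tau_ne_one (c : List ℕ) : T.tau c ≠ 1 := fun h => by
  refine T.notN ?_
  have e : T.t = T.jw c * T.tau c * (T.jw c)⁻¹ := by simp only [tau]; group
  rw [h, mul_one, mul_inv_cancel] at e
  rw [e]
  exact one_mem _

/-- the value is not trivial -/
theorem xB_ne_one : T.xB ≠ 1 := by
  intro hX
  have h := eqs_ok
  simp only [Bool.and_eq_true] at h
  obtain ⟨-, hmv⟩ := h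
  have hl := linesB_ok
  simp only [Bool.and_eq_true] at hl
  obtain ⟨ab, -, -⟩ := T.line_one hl.2
  obtain ⟨-, -, -, -, -, e6, e7, e8, e9⟩ := labels_ok
  rw [e6, e8, e9] at ab
  obtain ⟨-, c0, c1⟩ := T.wT2_eq
  have hsw : T.tau [] * T.tau wT * T.tau [] = T.tau DataB.mM * T.tau wT := by
    have e := T.xB_square
    rw [hX, pow_two] at e
    have e' := (eq_inv_of_mul_eq_one_left e.symm).trans (T.tau_inv _)
    calc T.tau [] * T.tau wT * T.tau [] =
        T.tau [] * T.tau wT * (T.tau [] * T.tau wT) * T.tau wT := by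
          simp only [mul_assoc, T.tau_sq, mul_one]
      _ = T.tau DataB.mM * T.tau wT := by rw [e']
  have hmove : ∀ i < 2, (T.tau [] * T.tau ((DataB.moves.getD i ([], [], [])).1 ++ wT) * T.tau [] =
      T.tau DataB.mM * T.tau ((DataB.moves.getD i ([], [], [])).1 ++ wT)) ∧
      Commute (T.tau ((DataB.moves.getD i ([], [], [])).1 ++ wT)) (T.tau DataB.mM) := by
    intro i hi
    have hi' : i < DataB.moves.length := by omega
    rw [List.getD_eq_getElem _ _ hi']
    have hp := List.all_eq_true.mp hmv _ (List.getElem_mem hi')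
    simp only [Bool.and_eq_true] at hp
    set w := (DataB.moves[i]).1
    have f : ∀ c, MulAut.conj (T.jw w)⁻¹ (T.tau c) = T.tau (w ++ c) := fun c => by
      rw [← T.tau_conj]; simp
    have f0 : MulAut.conj (T.jw w)⁻¹ (T.tau []) = T.tau [] :=
      (f []).trans (by rw [List.append_nil]; exact T.eqOK_tau hp.1)
    have fM := (f DataB.mM).trans (T.eqOK_tau hp.2)
    constructor
    · rw [← f wT, ← f0, ← fM, ← map_mul, ← map_mul, ← map_mul]
      exact congrArg _ (by rw [hsw])
    · rw [← f wT, ← fM]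
      exact c1.map _
  obtain ⟨hb, cb⟩ := hmove 0 (by norm_num)
  obtain ⟨hb', -⟩ := hmove 1 (by norm_num)
  set b := T.tau ((DataB.moves.getD 0 ([], [], [])).1 ++ wT)
  set b' := T.tau ((DataB.moves.getD 1 ([], [], [])).1 ++ wT)
  set m := T.tau DataB.mM
  refine T.tau_ne_one DataB.mM (mul_right_cancel (b := T.tau wT) ?_)
  rw [one_mul, ← hsw]
  calc T.tau [] * T.tau wT * T.tau []
      = (T.tau [] * b * T.tau []) * (T.tau [] * b' * T.tau []) := by
        rw [← ab]; simp only [mul_assoc]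
        rw [← mul_assoc (T.tau []) (T.tau []), T.tau_sq, one_mul]
    _ = (m * b) * (m * b') := by rw [hb, hb']
    _ = (m * m) * (b * b') := by
        rw [mul_assoc m b, ← mul_assoc b m, cb.eq]; simp only [mul_assoc]
    _ = T.tau wT := by rw [T.tau_sq, one_mul, ab]

/-- the product is the square of the element of order four -/
theorem xB_eq : T.xB = T.jw (wP ++ wP) := by
  obtain ⟨k, hk, hx⟩ := T.xB_perm
  obtain ⟨hM, hs, h1, h0, -⟩ := cand_facts
  have hsym : nf (DataB.sym ++ DataB.cand.getD k [] ++ invW DataB.sym) =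
      nf (invW (DataB.cand.getD k [])) := by
    refine T.nf_eq ?_
    rw [T.jw_append, T.jw_append, T.jw_invW, T.jw_invW, ← hx, ← mul_assoc]
    have h := eqs_ok
    simp only [Bool.and_eq_true] at h
    obtain ⟨⟨⟨⟨-, s0⟩, s1⟩, sM⟩, -⟩ := h
    have hc : Commute (T.tau DataB.mM) T.xB := by
      rw [hx]
      exact T.comm_step (List.all_eq_true.mp hM k (List.mem_range.mpr hk))
    have e := T.xB_square
    have hK : (T.tau [] * T.tau wT) ^ 2 = T.xB * T.tau DataB.mM := by
      rw [e, mul_assoc, T.tau_sq, mul_one]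
    let F := MulAut.conj (T.jw DataB.sym)⁻¹
    have f : ∀ c, F (T.tau c) = T.tau (DataB.sym ++ c) := fun c => by
      rw [← T.tau_conj]; simp [F]
    have f0 : F (T.tau []) = T.tau wT :=
      (f []).trans (by rw [List.append_nil]; exact T.eqOK_tau s0)
    have f1 : F (T.tau wT) = T.tau [] := (f wT).trans (T.eqOK_tau s1)
    have fM : F (T.tau DataB.mM) = T.tau DataB.mM := (f _).trans (T.eqOK_tau sM)
    have hF : F T.xB * T.tau DataB.mM = T.xB⁻¹ * T.tau DataB.mM := by
      have e2 := congrArg F hK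
      rw [map_mul, map_pow, map_mul, f0, f1, fM] at e2
      rw [← e2, show T.tau wT * T.tau [] = (T.tau [] * T.tau wT)⁻¹ by
        rw [mul_inv_rev, T.tau_inv, T.tau_inv], inv_pow, hK, mul_inv_rev, T.tau_inv,
        hc.inv_right.eq]
    have := mul_right_cancel hF
    simpa [F] using this
  simp only [Bool.or_eq_false_iff, decide_eq_false_iff_not] at hs
  interval_cases k
  · rw [hx]; exact T.jw_eq h0
  · exact absurd (hx.trans ((T.jw_eq h1).trans T.jw_nil)) T.xB_ne_one
  · exact absurd hsym hs.1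
  · exact absurd hsym hs.2

/-- the second relator -/
theorem relB : (T.j (SemidirectProduct.inr (pv wPi)) * T.t *
    ((T.j (SemidirectProduct.inr (pv wU)))⁻¹ * T.t * T.j (SemidirectProduct.inr (pv wU)))) ^ 2 =
      1 := by
  rw [← T.jw_rw14, ← T.tau_rw14, ← T.tau_nil]
  show (T.jw wP * T.tau [] * T.tau wT) ^ 2 = 1
  have h := eqs_ok
  simp only [Bool.and_eq_true] at h
  obtain ⟨⟨⟨⟨⟨⟨h0, -⟩, h2⟩, -⟩, -⟩, -⟩, -⟩ := h
  have hnil : T.jw (wP ++ wP ++ (wP ++ wP)) = 1 :=
    (T.jw_eq (v := []) (by decide +kernel)).trans T.jw_nil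
  have cT : T.jw wP * T.tau [] * (T.jw wP)⁻¹ = T.tau [] := by
    have := T.tau_conj (invW wP) []
    rw [T.jw_invW, inv_inv, List.append_nil] at this
    rw [this, T.eqOK_tau h0]
  have c2 : T.jw wP * T.tau wT2 * (T.jw wP)⁻¹ = T.tau wT := by
    have := T.tau_conj (invW wP) wT2
    rw [T.jw_invW, inv_inv] at this
    rw [this, T.eqOK_tau h2]
  have e := T.xB_eq
  rw [xB] at e
  change T.tau [] * T.tau wT2 * T.tau [] * T.tau wT = _ at e
  rw [T.jw_append] at e hnil
  rw [T.jw_append] at hnil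
  have cT' : T.jw wP * T.tau [] = T.tau [] * T.jw wP := mul_inv_eq_iff_eq_mul.mp cT
  have c2' : T.jw wP * T.tau wT2 = T.tau wT * T.jw wP := mul_inv_eq_iff_eq_mul.mp c2
  calc (T.jw wP * T.tau [] * T.tau wT) ^ 2
      = T.jw wP * T.tau [] * (T.tau wT * T.jw wP) * T.tau [] * T.tau wT := by
        rw [pow_two]; simp only [mul_assoc]
    _ = T.jw wP * T.tau [] * T.jw wP * (T.tau wT2 * T.tau [] * T.tau wT) := by
        rw [← c2']; simp only [mul_assoc]
    _ = T.jw wP * T.jw wP * (T.tau [] * T.tau wT2 * T.tau [] * T.tau wT) := by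
        rw [mul_assoc (T.jw wP) (T.tau []), ← cT']; simp only [mul_assoc]
    _ = 1 := by rw [e]; exact hnil

end Tw

/-- the two relators hold for a copy of the model with t -/
theorem setup {G : Type*} [Group G] (T : Tw G) :
    ∃ S : H84.J4N.Setup G, S.φ = T.j.comp SemidirectProduct.inr ∧ S.t = T.t := by
  refine ⟨⟨T.j.comp SemidirectProduct.inr, T.t, T.sq, ?_, T.relA, T.relB⟩, rfl, rfl⟩
  intro w hw
  have hcert : H84.J4N.certTrio.gens.all (fun z => H94.J4.Data.prim.any fun p =>
      decide (p.1 = p.2) && decide (nf p.1 = nf (rw14 z))) = true := by decide +kernel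
  have h := List.all_eq_true.mp hcert w hw
  simp only [List.any_eq_true, Bool.and_eq_true, decide_eq_true_eq] at h
  obtain ⟨p, hp, hpp, hnf⟩ := h
  have e := T.prim p hp
  rw [← hpp] at e
  show T.j (SemidirectProduct.inr (pv w)) * T.t = T.t * T.j (SemidirectProduct.inr (pv w))
  rw [← T.jw_rw14, ← T.jw_eq hnf]
  exact e.symm

end H92.J4Rel
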